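import Cfsg.Agent.Lib.Small.Modular.Weights

/-!
Characters of the torus on products of the elements n_i.
-/

set_option autoImplicit false

namespace Cfsg.Agent.Small.Modular

open Cfsg.Lie Cfsg.Agent.Lie Cfsg.Agent.Small.StModule Matrix
open scoped MatrixGroups

variable {D : ChevalleyDatum} {F : Type*} [Field F] (hF : Facts D)
variable {k : Type*} [Field k]

/-- Coordinates of n_i t n_i⁻¹. -/
def flipCoord (i : Fin D.rank) : (Fin D.rank → Fˣ) →* (Fin D.rank → Fˣ) :=
  MonoidHom.mk' (fun c => c * Pi.mulSingle i (torChar D c (D.simple i.val))⁻¹) fun a b => by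
    have h : torChar D (a * b) (D.simple i.val) =
        torChar D a (D.simple i.val) * torChar D b (D.simple i.val) := by
      simp [torChar, _root_.mul_zpow, Finset.prod_mul_distrib]
    simp only [h, _root_.mul_inv, Pi.mulSingle_mul]
    exact mul_mul_mul_comm _ _ _ _

theorem flipCoord_apply (i : Fin D.rank) (c : Fin D.rank → Fˣ) :
    flipCoord i c = c * Pi.mulSingle i (torChar D c (D.simple i.val))⁻¹ := rfl

theorem torChar_single (i : Fin D.rank) (t : Fˣ) (s : ℕ) :
    torChar D (Pi.mulSingle i t) s = t ^ D.cartan i.val s := by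
  rw [torChar, Finset.prod_eq_single i]
  · rw [Pi.mulSingle_eq_same]
  · intro j _ hj
    rw [Pi.mulSingle_eq_of_ne hj, _root_.one_zpow]
  · simp

include hF in
theorem flipCoord_single (i : Fin D.rank) (t : Fˣ) :
    flipCoord i (Pi.mulSingle i t) = Pi.mulSingle i t⁻¹ := by
  rw [flipCoord_apply, torChar_single, ← Pi.mulSingle_mul]
  congr 1
  rw [← hF.pairing_simple i.isLt, hF.pairing_self _ (hF.simple_lt i.val i.isLt)]
  group

include hF in
theorem nS_conj_torus (i : Fin D.rank) (c : Fin D.rank → Fˣ) :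
    (hF.tsys F).nS i * torus D F c * ((hF.tsys F).nS i)⁻¹ = torus D F (flipCoord i c) := by
  rw [mul_inv_eq_iff_eq_mul, hF.tsys_nS]
  ext1
  rw [Units.val_mul, Units.val_mul, Facts.coe_ng, coe_torus, coe_torus,
    hF.nMat_mul_diagM i.val i.isLt]
  congr 1
  refine Facts.diagM_congr fun s hs => ?_
  congr 1
  have h : torChar D (flipCoord i c) s =
      torChar D c s * torChar D (Pi.mulSingle i (torChar D c (D.simple i.val))⁻¹) s := by
    rw [flipCoord_apply]
    simp [torChar, _root_.mul_zpow, Finset.prod_mul_distrib]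
  rw [h, torChar_single, torChar, torChar, torChar, _root_.inv_zpow, ← Finset.prod_zpow,
    ← Finset.prod_inv_distrib, ← Finset.prod_mul_distrib]
  refine Finset.prod_congr rfl fun j _ => ?_
  rw [hF.cartan_refl i.val i.isLt s hs j.val j.isLt, sub_eq_add_neg, _root_.zpow_add,
    _root_.zpow_neg, mul_comm (D.cartan i.val s), _root_.zpow_mul]

open Classical in
/-- The character of H with coordinates χ, extended by zero. -/
noncomputable def chH (χ : (Fin D.rank → Fˣ) →* kˣ) (g : GL D.Idx F) : k :=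
  if h : ∃ c, torus D F c = g then (χ h.choose : k) else 0

variable (hinj : Function.Injective (torus D F)) (χ : (Fin D.rank → Fˣ) →* kˣ)

include hinj in
theorem chH_torus (c : Fin D.rank → Fˣ) : chH χ (torus D F c) = (χ c : k) := by
  have h : ∃ c', torus D F c' = torus D F c := ⟨c, rfl⟩
  rw [chH, dif_pos h, hinj h.choose_spec]

include hF in
theorem exists_coord {a : GL D.Idx F} (ha : a ∈ (hF.tsys F).H) : ∃ c, torus D F c = a := by
  rw [hF.tsys_H, hF.diagonalSubgroup_eq] at ha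
  exact ha

include hF hinj in
theorem chH_mul {a b : GL D.Idx F} (ha : a ∈ (hF.tsys F).H) (hb : b ∈ (hF.tsys F).H) :
    chH χ (a * b) = chH χ a * chH χ b := by
  obtain ⟨c, rfl⟩ := exists_coord hF ha
  obtain ⟨d, rfl⟩ := exists_coord hF hb
  rw [← map_mul, chH_torus hinj, chH_torus hinj, chH_torus hinj, map_mul, Units.val_mul]

include hF hinj in
theorem chH_ne_zero {a : GL D.Idx F} (ha : a ∈ (hF.tsys F).H) : chH χ a ≠ 0 := by
  obtain ⟨c, rfl⟩ := exists_coord hF ha
  rw [chH_torus hinj]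
  exact (χ c).ne_zero

include hF hinj in
theorem chH_inv {a : GL D.Idx F} (ha : a ∈ (hF.tsys F).H) : chH χ a⁻¹ = (chH χ a)⁻¹ := by
  obtain ⟨c, rfl⟩ := exists_coord hF ha
  rw [← map_inv, chH_torus hinj, chH_torus hinj, map_inv, Units.val_inv_eq_inv_val]

include hF hinj in
theorem chH_nS {i : Fin D.rank} (hi : ∀ t : Fˣ, χ (Pi.mulSingle i t) = 1) {a : GL D.Idx F}
    (ha : a ∈ (hF.tsys F).H) :
    chH χ ((hF.tsys F).nS i * a * ((hF.tsys F).nS i)⁻¹) = chH χ a := by
  obtain ⟨c, rfl⟩ := exists_coord hF ha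
  rw [nS_conj_torus hF, chH_torus hinj, chH_torus hinj, flipCoord_apply, map_mul, hi, mul_one]

variable {Z : Finset (Fin D.rank)} (hZ : ∀ i ∈ Z, ∀ t : Fˣ, χ (Pi.mulSingle i t) = 1)

include hF hinj hZ in
theorem chH_nw {ω : List (Fin D.rank)} (hω : ∀ i ∈ ω, i ∈ Z) {a : GL D.Idx F}
    (ha : a ∈ (hF.tsys F).H) :
    chH χ ((hF.tsys F).nw ω * a * ((hF.tsys F).nw ω)⁻¹) = chH χ a := by
  induction ω with
  | nil => simp [TorusSys.nw_nil]
  | cons i ω ih =>
    rw [TorusSys.nw_cons, show (hF.tsys F).nS i * (hF.tsys F).nw ω * a *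
        ((hF.tsys F).nS i * (hF.tsys F).nw ω)⁻¹ = (hF.tsys F).nS i *
          ((hF.tsys F).nw ω * a * ((hF.tsys F).nw ω)⁻¹) * ((hF.tsys F).nS i)⁻¹ by group,
      chH_nS hF hinj χ (hZ i (hω i List.mem_cons_self)) ((hF.tsys F).nw_H ω ha),
      ih fun j hj => hω j (List.mem_cons_of_mem _ hj)]

include hF hinj hZ in
theorem chH_hg {i : Fin D.rank} (hi : i ∈ Z) {t : F} (ht : t ≠ 0) :
    chH χ (hF.hg (D.simple i.val) t) = 1 := by
  rw [show t = ((Units.mk0 t ht : Fˣ) : F) from rfl, ← hF.torus_single, chH_torus hinj, hZ i hi,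
    Units.val_one]

include hF hinj hZ in
theorem chH_nw_one : ∀ ω : List (Fin D.rank), (∀ i ∈ ω, i ∈ Z) → hF.refSys.pr ω = 1 →
    chH χ ((hF.tsys F).nw ω) = 1 := by
  intro ω
  induction hn : ω.length using Nat.strong_induction_on generalizing ω with
  | _ n ih =>
    subst hn
    intro hmem hω
    rcases Nat.eq_zero_or_pos ω.length with h0 | hpos
    · rw [List.eq_nil_of_length_eq_zero h0, TorusSys.nw_nil, ← map_one (torus D F),
        chH_torus hinj, map_one, Units.val_one]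
    obtain ⟨A, i, Mid, j, C, rfl, hroot⟩ := hF.refSys.deletion'
      (ω := ω) (by rw [hω, RefSystem.len_one]; exact hpos)
    have hA : ∀ l ∈ A, l ∈ Z := fun l hl => hmem l (by simp [hl])
    have hMid : ∀ l ∈ Mid, l ∈ Z := fun l hl => hmem l (by simp [hl])
    have hi : i ∈ Z := hmem i (by simp)
    rw [hF.refSys.pr_shorten hroot] at hω
    have hmem' : ∀ l ∈ A ++ (Mid ++ C), l ∈ Z := fun l hl => hmem l (by
      simp only [List.mem_append, List.mem_cons] at hl ⊢
      rcases hl with h | h | h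
      · exact Or.inl h
      · exact Or.inr (Or.inr (Or.inl h))
      · exact Or.inr (Or.inr (Or.inr (Or.inr h))))
    have hrest := ih _ (by simp) (A ++ (Mid ++ C)) rfl hmem' hω
    have key : ∀ (q : List (Fin D.rank)) (r : ℕ) (hr : r < D.nroots), ∃ c : F, c ≠ 0 ∧
        (hF.tsys F).nw q * (hF.tsys F).n r 1 * ((hF.tsys F).nw q)⁻¹ =
          (hF.tsys F).n (hF.refSys.pr q • (⟨r, hr⟩ : Fin D.nroots)).val c := by
      intro q r hr
      induction q with
      | nil => exact ⟨1, one_ne_zero, by simp [TorusSys.nw_nil]⟩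
      | cons l q ih =>
        obtain ⟨c, hc, hceq⟩ := ih
        refine ⟨hF.sgn F l.val (hF.refSys.pr q • (⟨r, hr⟩ : Fin D.nroots)).val * c,
          mul_ne_zero (left_ne_zero_of_mul_eq_one (hF.sgn_mul_self l.isLt (Fin.isLt _))) hc, ?_⟩
        rw [TorusSys.nw_cons, RefSystem.pr_cons, mul_smul,
          show hF.refSys.s l = hF.wS l from rfl, hF.wS_smul,
          show (hF.tsys F).nS l * (hF.tsys F).nw q * (hF.tsys F).n r 1 *
              ((hF.tsys F).nS l * (hF.tsys F).nw q)⁻¹ = (hF.tsys F).nS l *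
            ((hF.tsys F).nw q * (hF.tsys F).n r 1 * ((hF.tsys F).nw q)⁻¹) *
              ((hF.tsys F).nS l)⁻¹ by group, hceq, (hF.tsys F).nS_conj_n l (Fin.isLt _)]
    obtain ⟨c, hc, hceq⟩ := key Mid (D.simple j.val) (hF.simple_lt j.val j.isLt)
    rw [show (⟨D.simple j.val, hF.simple_lt j.val j.isLt⟩ : Fin D.nroots) = hF.refSys.α j from rfl,
      hroot] at hceq
    have hgeq : (hF.tsys F).nw Mid * (hF.tsys F).nS j * ((hF.tsys F).nw Mid)⁻¹ =
        (hF.tsys F).h (D.simple i.val) c * (hF.tsys F).nS i :=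
      hceq.trans ((hF.tsys F).n_eq_h_mul _ _)
    set g := (hF.tsys F).h (D.simple i.val) c with hg
    have hgH : g ∈ (hF.tsys F).H := (hF.tsys F).h_mem (hF.simple_lt i.val i.isLt) hc
    have hg1 : chH χ g = 1 := by rw [hg, hF.tsys_h]; exact chH_hg hF hinj χ hZ hi hc
    have hsq : chH χ ((hF.tsys F).nS i * (hF.tsys F).nS i) = 1 := by
      rw [(hF.tsys F).nS_sq, chH_inv hF hinj χ ((hF.tsys F).h_mem (hF.simple_lt i.val i.isLt)
        (neg_ne_zero.2 one_ne_zero)), hF.tsys_h,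
        chH_hg hF hinj χ hZ hi (neg_ne_zero.2 one_ne_zero), inv_one]
    have hmid : (hF.tsys F).nw Mid * (hF.tsys F).nS j =
        g * (hF.tsys F).nS i * (hF.tsys F).nw Mid := by rw [← hgeq]; group
    have e : (hF.tsys F).nw (A ++ i :: (Mid ++ j :: C)) =
        ((hF.tsys F).nw A * ((hF.tsys F).nS i * g * ((hF.tsys F).nS i)⁻¹ *
          ((hF.tsys F).nS i * (hF.tsys F).nS i)) * ((hF.tsys F).nw A)⁻¹) *
          (hF.tsys F).nw (A ++ (Mid ++ C)) := by
      simp only [TorusSys.nw_append, TorusSys.nw_cons]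
      rw [← mul_assoc ((hF.tsys F).nw Mid) ((hF.tsys F).nS j), hmid]
      group
    have hin := mul_mem ((hF.tsys F).nS_H i hgH) ((hF.tsys F).nS_sq_mem i)
    rw [e, chH_mul hF hinj χ ((hF.tsys F).nw_H A hin) ((hF.tsys F).nw_eq_one_mem _ hω),
      chH_nw hF hinj χ hZ hA hin, chH_mul hF hinj χ ((hF.tsys F).nS_H i hgH)
        ((hF.tsys F).nS_sq_mem i), chH_nS hF hinj χ (hZ i hi) hgH, hg1, hsq, hrest, one_mul, one_mul]

include hF hinj hZ in
/-- Two words with the same product differ by an element killed by χ. -/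
theorem chH_words {ω ω' : List (Fin D.rank)} (hω : ∀ i ∈ ω, i ∈ Z) (hω' : ∀ i ∈ ω', i ∈ Z)
    (he : hF.refSys.pr ω = hF.refSys.pr ω') :
    ∃ a ∈ (hF.tsys F).H, chH χ a = 1 ∧ (hF.tsys F).nw ω = a * (hF.tsys F).nw ω' := by
  have hrev : ∀ i ∈ ω'.reverse, i ∈ Z := fun i hi => hω' i (List.mem_reverse.1 hi)
  have h1 : hF.refSys.pr (ω ++ ω'.reverse) = 1 := by
    rw [RefSystem.pr_append, RefSystem.pr_reverse, he, mul_inv_cancel]
  have h2 : hF.refSys.pr (ω'.reverse ++ ω') = 1 := by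
    rw [RefSystem.pr_append, RefSystem.pr_reverse, inv_mul_cancel]
  have m1 := (hF.tsys F).nw_eq_one_mem _ h1
  have m2 := (hF.tsys F).nw_eq_one_mem _ h2
  refine ⟨(hF.tsys F).nw ω * ((hF.tsys F).nw (ω'.reverse ++ ω'))⁻¹ * ((hF.tsys F).nw ω)⁻¹ *
    (hF.tsys F).nw (ω ++ ω'.reverse), mul_mem ((hF.tsys F).nw_H ω (inv_mem m2)) m1, ?_, ?_⟩
  · rw [chH_mul hF hinj χ ((hF.tsys F).nw_H ω (inv_mem m2)) m1,
      chH_nw hF hinj χ hZ hω (inv_mem m2), chH_inv hF hinj χ m2,
      chH_nw_one hF hinj χ hZ _ (fun i hi => (List.mem_append.1 hi).elim (hrev i) (hω' i)) h2,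
      chH_nw_one hF hinj χ hZ _ (fun i hi => (List.mem_append.1 hi).elim (hω i) (hrev i)) h1,
      inv_one, one_mul]
  · simp only [TorusSys.nw_append]
    group

end Cfsg.Agent.Small.Modular
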