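import Cfsg.Agent.Lib.Small.Modular.Character

/-!
Orbit sums of a vector along elements of N, and the regular module with its standard vector.
-/

set_option autoImplicit false

namespace Cfsg.Agent.Small.Modular

open Cfsg.Lie Cfsg.Agent.Lie Cfsg.Agent.Small.StModule Matrix
open scoped MatrixGroups

variable {D : ChevalleyDatum} {F : Type*} [Field F] (hF : Facts D)
variable {k : Type*} [Field k] {W : Type*} [AddCommGroup W] [Module k W]
variable (A : Act D F k W)

section

variable [Fintype F] [Fintype Fˣ]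

/-- The orbit sum of n v. -/
noncomputable def Psi (v : W) (w : hF.weyl) (n : GL D.Idx F) : W :=
  ∑ᶠ u : ↥((hF.tsys F).US (TorusSys.invList w⁻¹)), A.ρ ((u : GL D.Idx F) * n) v

theorem T_Psi (i : Fin D.rank) (v : W) {w : hF.weyl} {m : GL D.Idx F} (hm : m ∈ D.group F)
    (hw : w⁻¹ • hF.refSys.α i ∈ hF.refSys.P) :
    T hF A i (Psi hF A v w m) = Psi hF A v (hF.wS i * w) ((hF.tsys F).nS i * m) := by
  classical
  set L := TorusSys.invList w⁻¹ with hL
  set L' := TorusSys.invList (hF.wS i * w)⁻¹ with hL'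
  set n := (hF.tsys F).nS i with hn
  have hinv : (hF.wS i * w)⁻¹ = w⁻¹ * hF.wS i := by
    rw [_root_.mul_inv_rev, inv_eq_of_mul_eq_one_right (hF.wS_sq i)]
  have hlen : hF.refSys.len (hF.wS i * w)⁻¹ = hF.refSys.len w⁻¹ + 1 := by
    rw [hinv]; exact hF.refSys.len_mul_s_of_mem hw
  have hα : (hF.refSys.α i).val = D.simple i.val := rfl
  have hαL' : D.simple i.val ∈ L' := by
    refine TorusSys.mem_invList.2 ⟨hF.simple_lt i.val i.isLt, (RefSystem.mem_inv _).2
      ⟨hF.refSys.α_mem i, ?_⟩⟩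
    show (hF.wS i * w)⁻¹ • hF.refSys.α i ∉ hF.refSys.P
    rw [hinv, mul_smul, show hF.wS i • hF.refSys.α i = hF.refSys.neg (hF.refSys.α i) from
      hF.refSys.s_α i, RefSystem.smul_neg, hF.refSys.neg_mem, not_not]
    exact hw
  have hLne : ∀ r ∈ L, r ∈ TorusSys.posNe D i := by
    intro r hr
    obtain ⟨h, h'⟩ := TorusSys.mem_invList.1 hr
    obtain ⟨h1, h2⟩ := (RefSystem.mem_inv _).1 h'
    refine TorusSys.mem_posNe.2 ⟨((TorusSys.closed_invList w⁻¹).mem_pos r hr).1, h, fun he => h2 ?_⟩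
    rwa [show (⟨r, h⟩ : Fin D.nroots) = hF.refSys.α i from Fin.ext (he.trans hα.symm)]
  have hconj : ∀ u ∈ (hF.tsys F).US L, n * u * n⁻¹ ∈ (hF.tsys F).US L' := by
    intro u hu
    induction hu using Subgroup.closure_induction with
    | mem g hg =>
      obtain ⟨r, hr, a, rfl⟩ := hg
      obtain ⟨h, h'⟩ := TorusSys.mem_invList.1 hr
      obtain ⟨h1, h2⟩ := (RefSystem.mem_inv _).1 h'
      rw [(hF.tsys F).nS_conj i h]
      refine CommSys.x_mem_US _ (TorusSys.mem_invList.2 ⟨hF.refl_lt i.val i.isLt r h,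
        (RefSystem.mem_inv _).2 ⟨?_, ?_⟩⟩) _
      · have := TorusSys.mem_posNe.1 (TorusSys.refl_posNe (hF := hF) i (hLne r hr))
        simpa [Facts.refSys] using this.1
      · rw [hinv, mul_smul, show hF.wS i • (⟨D.reflectRoot i.val r, hF.refl_lt i.val i.isLt r h⟩ :
            Fin D.nroots) = ⟨r, h⟩ from Fin.ext (by
          rw [hF.wS_smul]; exact hF.refl_refl i.val i.isLt r h)]
        exact h2
    | one => simp
    | mul p q _ _ hp hq =>
      rw [show n * (p * q) * n⁻¹ = n * p * n⁻¹ * (n * q * n⁻¹) by group]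
      exact mul_mem hp hq
    | inv p _ hp =>
      rw [show n * p⁻¹ * n⁻¹ = (n * p * n⁻¹)⁻¹ by group]
      exact inv_mem hp
  let f : F × ↥((hF.tsys F).US L) → ↥((hF.tsys F).US L') := fun x =>
    ⟨hF.xg (D.simple i.val) x.1 * (n * (x.2 : GL D.Idx F) * n⁻¹),
      mul_mem (CommSys.x_mem_US _ hαL' _) (hconj _ x.2.2)⟩
  have hinj : Function.Injective f := by
    rintro ⟨t, u⟩ ⟨t', u'⟩ h
    have h1 : hF.xg (D.simple i.val) t * (n * (u : GL D.Idx F) * n⁻¹) =
        hF.xg (D.simple i.val) t' * (n * (u' : GL D.Idx F) * n⁻¹) := congrArg Subtype.val h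
    have hu : (u' : GL D.Idx F) * (u : GL D.Idx F)⁻¹ ∈ (hF.tsys F).US L :=
      mul_mem u'.2 (inv_mem u.2)
    have hU := US_inv_le_U hF _ hu
    have h2 : (u' : GL D.Idx F) * (u : GL D.Idx F)⁻¹ =
        n⁻¹ * hF.xg (D.simple i.val) (-t' + t) * n := by
      rw [hF.xg_add, hF.xg_neg]
      calc _ = n⁻¹ * (hF.xg (D.simple i.val) t')⁻¹ *
            (hF.xg (D.simple i.val) t' * (n * (u' : GL D.Idx F) * n⁻¹)) * n *
              (u : GL D.Idx F)⁻¹ := by group
        _ = _ := by rw [← h1]; group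
    rw [← Facts.tsys_x (hF := hF), hn, (hF.tsys F).nS_conj_inv i (hF.simple_lt i.val i.isLt),
      Facts.refl_simple] at h2
    have h3 : (u' : GL D.Idx F) * (u : GL D.Idx F)⁻¹ = 1 :=
      hF.B_inter_V ((hF.tsys F).U_le_B hU) (h2 ▸ hF.x_mem_negUnipotent (by
        have := (hF.neg_ge_iff (hF.simple_lt i.val i.isLt)).not.2 (by
          simpa [Facts.refSys] using hF.simple_ge i.val i.isLt)
        omega) _)
    obtain rfl : u = u' := Subtype.ext (mul_inv_eq_one.1 h3).symm
    have h4 := ChevRat.xg_inj hF (hF.simple_lt i.val i.isLt) (mul_right_cancel h1)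
    rw [h4]
  have hbij : Function.Bijective f := by
    refine (Nat.bijective_iff_injective_and_card f).2 ⟨hinj, ?_⟩
    rw [Nat.card_prod, hF.card_US (TorusSys.closed_invList _), hF.card_US (TorusSys.closed_invList _),
      TorusSys.length_invList, TorusSys.length_invList, hlen, pow_succ, mul_comm]
  rw [Psi, Psi, finsum_eq_sum_of_fintype, finsum_eq_sum_of_fintype, map_sum]
  simp only [T_apply]
  rw [Finset.sum_comm, ← Fintype.sum_prod_type']
  refine Fintype.sum_bijective f hbij _ _ fun x => ?_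
  have hx2 : (x.2 : GL D.Idx F) ∈ D.group F := U_mem hF (US_inv_le_U hF _ x.2.2)
  rw [← A.mul _ (mul_mem (hF.xg_mem_group _ _) (nS_mem hF i)) _ (mul_mem hx2 hm)]
  congr 2
  show _ = hF.xg (D.simple i.val) x.1 * (n * (x.2 : GL D.Idx F) * n⁻¹) * (n * m)
  rw [hn]
  group

omit [Fintype F] [Fintype Fˣ] in
theorem Psi_smul (v : W) (w : hF.weyl) {n a : GL D.Idx F} (hn : n ∈ D.group F)
    (ha : a ∈ D.group F) {c : k} (hc : A.ρ a v = c • v) [Finite F] :
    Psi hF A v w (n * a) = c • Psi hF A v w n := by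
  classical
  haveI := Fintype.ofFinite ↥((hF.tsys F).US (TorusSys.invList (hF := hF) w⁻¹))
  rw [Psi, Psi, finsum_eq_sum_of_fintype, finsum_eq_sum_of_fintype, Finset.smul_sum]
  refine Finset.sum_congr rfl fun u _ => ?_
  rw [← mul_assoc, A.mul _ (mul_mem (U_mem hF (US_inv_le_U hF _ u.2)) hn) _ ha, hc, map_smul]

omit [Fintype Fˣ] in
theorem Psi_H (v : W) (w : hF.weyl) {n a : GL D.Idx F} (hn : n ∈ D.group F)
    (ha : a ∈ (hF.tsys F).H) {c : k} (hc : A.ρ (n⁻¹ * a * n) v = c • v) :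
    A.ρ a (Psi hF A v w n) = c • Psi hF A v w n := by
  classical
  haveI := Fintype.ofFinite ↥((hF.tsys F).US (TorusSys.invList (hF := hF) w⁻¹))
  have hL : ∀ r ∈ TorusSys.invList (hF := hF) w⁻¹, r < D.nroots := fun r hr =>
    ((TorusSys.closed_invList w⁻¹).mem_pos r hr).2
  have haG := H_mem hF ha
  rw [Psi, finsum_eq_sum_of_fintype, map_sum, Finset.smul_sum]
  let e : ↥((hF.tsys F).US (TorusSys.invList (hF := hF) w⁻¹)) ≃
      ↥((hF.tsys F).US (TorusSys.invList (hF := hF) w⁻¹)) :=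
    { toFun := fun u => ⟨a * (u : GL D.Idx F) * a⁻¹, (hF.tsys F).H_conj_US ha hL u.2⟩
      invFun := fun u => ⟨a⁻¹ * (u : GL D.Idx F) * a, by
        have := (hF.tsys F).H_conj_US (inv_mem ha) hL u.2
        rwa [inv_inv] at this⟩
      left_inv := fun u => Subtype.ext (by
        show a⁻¹ * (a * (u : GL D.Idx F) * a⁻¹) * a = _
        group)
      right_inv := fun u => Subtype.ext (by
        show a * (a⁻¹ * (u : GL D.Idx F) * a) * a⁻¹ = _
        group) }
  refine Fintype.sum_equiv e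
    _ _ fun u => ?_
  have huG := U_mem hF (US_inv_le_U hF _ u.2)
  have hu' : a * (u : GL D.Idx F) * a⁻¹ ∈ D.group F := mul_mem (mul_mem haG huG) (inv_mem haG)
  show _ = c • A.ρ (a * (u : GL D.Idx F) * a⁻¹ * n) v
  rw [← A.mul _ haG _ (mul_mem huG hn), ← map_smul, ← hc,
    ← A.mul _ (mul_mem hu' hn) _ (mul_mem (mul_mem (inv_mem hn) haG) hn)]
  congr 2
  group

omit [Fintype Fˣ] in
theorem Psi_ufix [Fintype Fˣ] {v : W} (hv : Eig hF A v) (w : hF.weyl) {n a : GL D.Idx F}
    (ha : a ∈ (hF.tsys F).H) (hn : n = a * (hF.tsys F).nW w) : UFix hF A (Psi hF A v w n) := by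
  classical
  set a' := ((hF.tsys F).nW w)⁻¹ * a * (hF.tsys F).nW w with ha'
  have ha'H : a' ∈ (hF.tsys F).H := (hF.tsys F).nW_H' ha
  obtain ⟨c, hc⟩ := hv.2 a' ha'H
  have e : n = (hF.tsys F).nW w * a' := by rw [hn, ha']; group
  rw [e, Psi_smul hF A v w (StChar.nW_mem_group hF w) (H_mem hF ha'H) hc]
  intro u hu
  rw [map_smul]
  congr 1
  exact (Phi_eig hF A hv _ w rfl).1 u hu

end

/-- The regular module on functions. -/
noncomputable def regAct (D : ChevalleyDatum) (F : Type*) [Field F] (k : Type*) [Field k] :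
    Act D F k (↥(D.group F) → k) := by
  classical
  exact
    { ρ := fun g => if hg : g ∈ D.group F then LinearMap.funLeft k k fun x => x * ⟨g, hg⟩
        else LinearMap.id
      one := by
        rw [dif_pos (one_mem _)]
        refine LinearMap.ext fun f => funext fun x => ?_
        show f (x * ⟨1, _⟩) = f x
        congr 1
        exact mul_one x
      mul := fun a ha b hb f => by
        rw [dif_pos ha, dif_pos hb, dif_pos (mul_mem ha hb)]
        funext x
        show f (x * ⟨a * b, _⟩) = f (x * ⟨a, ha⟩ * ⟨b, hb⟩)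
        rw [mul_assoc]
        rfl }

theorem regAct_apply {g : GL D.Idx F} (hg : g ∈ D.group F) (f : ↥(D.group F) → k)
    (x : ↥(D.group F)) : (regAct D F k).ρ g f x = f (x * ⟨g, hg⟩) := by
  classical
  show (if h : g ∈ D.group F then LinearMap.funLeft k k fun x => x * ⟨g, h⟩
    else LinearMap.id) f x = _
  rw [dif_pos hg]
  rfl

open Classical in
/-- The standard vector: the character χ of B read through the torus part, zero outside B. -/
noncomputable def stdVec (χ : (Fin D.rank → Fˣ) →* kˣ) : ↥(D.group F) → k := fun g =>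
  if h : ∃ u ∈ (hF.tsys F).U, ∃ c, (g : GL D.Idx F) = u * torus D F c then
    (χ h.choose_spec.2.choose : k) else 0

variable (hinj : Function.Injective (torus D F)) (χ : (Fin D.rank → Fˣ) →* kˣ)

include hinj in
theorem stdVec_eq {g : ↥(D.group F)} {u : GL D.Idx F} {c : Fin D.rank → Fˣ}
    (hu : u ∈ (hF.tsys F).U) (hg : (g : GL D.Idx F) = u * torus D F c) :
    stdVec hF χ g = (χ c : k) := by
  have h : ∃ u ∈ (hF.tsys F).U, ∃ c, (g : GL D.Idx F) = u * torus D F c := ⟨u, hu, c, hg⟩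
  rw [stdVec, dif_pos h]
  have h1 := h.choose_spec.1
  have h2 := h.choose_spec.2.choose_spec
  set u' := h.choose
  set c' := h.choose_spec.2.choose
  replace h2 : u * torus D F c = u' * torus D F c' := hg.symm.trans h2
  have h3 : u'⁻¹ * u = torus D F c' * (torus D F c)⁻¹ := by
    calc u'⁻¹ * u = u'⁻¹ * (u * torus D F c) * (torus D F c)⁻¹ := by group
      _ = _ := by rw [h2]; group
  have h4 := hF.U_inter_H (mul_mem (inv_mem h1) hu)
    (by rw [h3]; exact mul_mem (torus_mem_H hF c') (inv_mem (torus_mem_H hF c)))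
  rw [h4, eq_comm, mul_inv_eq_one] at h3
  rw [hinj h3]

theorem stdVec_zero {g : ↥(D.group F)} (hg : (g : GL D.Idx F) ∉ (hF.tsys F).B) :
    stdVec hF χ g = 0 := by
  rw [stdVec, dif_neg]
  rintro ⟨u, hu, c, he⟩
  exact hg (he ▸ mul_mem ((hF.tsys F).U_le_B hu) ((hF.tsys F).H_le_B (torus_mem_H hF c)))

theorem exists_split {g : GL D.Idx F} (hg : g ∈ (hF.tsys F).B) :
    ∃ u ∈ (hF.tsys F).U, ∃ c, g = u * torus D F c := by
  obtain ⟨u, hu, a, ha, rfl⟩ := (hF.tsys F).mem_B.1 hg
  obtain ⟨c, rfl⟩ := exists_coord hF ha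
  exact ⟨u, hu, c, rfl⟩

include hinj in
theorem stdVec_U : UFix hF (regAct D F k) (stdVec hF χ) := by
  intro u hu
  funext g
  rw [regAct_apply (U_mem hF hu)]
  by_cases h : (g : GL D.Idx F) ∈ (hF.tsys F).B
  · obtain ⟨u1, hu1, c, he⟩ := exists_split hF h
    have hu2 : torus D F c * u * (torus D F c)⁻¹ ∈ (hF.tsys F).U :=
      (hF.tsys F).H_conj_US (torus_mem_H hF c) TorusSys.posL_lt hu
    rw [stdVec_eq hF hinj χ hu1 he,
      stdVec_eq hF hinj χ (mul_mem hu1 hu2) (c := c) (by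
        show (g : GL D.Idx F) * u = _
        rw [he]; group)]
  · rw [stdVec_zero hF χ h, stdVec_zero hF χ fun h' => h (by
      have := mul_mem h' (inv_mem ((hF.tsys F).U_le_B hu))
      rwa [Subgroup.coe_mul, mul_inv_cancel_right] at this)]

include hinj in
theorem stdVec_eig (d : Fin D.rank → Fˣ) :
    (regAct D F k).ρ (torus D F d) (stdVec hF χ) = (χ d : k) • stdVec hF χ := by
  funext g
  rw [regAct_apply (torus_mem_group hF d), Pi.smul_apply, smul_eq_mul]
  by_cases h : (g : GL D.Idx F) ∈ (hF.tsys F).B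
  · obtain ⟨u1, hu1, c, he⟩ := exists_split hF h
    rw [stdVec_eq hF hinj χ hu1 he, stdVec_eq hF hinj χ hu1 (c := c * d) (by
      show (g : GL D.Idx F) * torus D F d = _
      rw [he, map_mul]; group), map_mul, Units.val_mul, mul_comm]
  · rw [stdVec_zero hF χ h, mul_zero, stdVec_zero hF χ fun h' => h (by
      have := mul_mem h' (inv_mem ((hF.tsys F).H_le_B (torus_mem_H hF d)))
      rwa [Subgroup.coe_mul, mul_inv_cancel_right] at this)]

theorem nW_inv (w : hF.weyl) {n a : GL D.Idx F} (ha : a ∈ (hF.tsys F).H)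
    (hn : n = a * (hF.tsys F).nW w) :
    ∃ b ∈ (hF.tsys F).H, n⁻¹ = b * (hF.tsys F).nW w⁻¹ := by
  obtain ⟨c, hc, hce⟩ := hF.nW_mul (F := F) w⁻¹ w
  rw [inv_mul_cancel] at hce
  have hk : c * (hF.tsys F).nW 1 ∈ (hF.tsys F).H := mul_mem hc (hF.tsys F).nW_one
  refine ⟨(c * (hF.tsys F).nW 1)⁻¹ *
    ((hF.tsys F).nW w⁻¹ * a⁻¹ * ((hF.tsys F).nW w⁻¹)⁻¹),
    mul_mem (inv_mem hk) ((hF.tsys F).nW_H (inv_mem ha)), ?_⟩
  rw [hn, ← hce]
  group

include hinj in
/-- Values of orbit sums of the standard vector on inverses of elements of N. -/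
theorem Psi_eval [Fintype F] (w w' : hF.weyl) {n n' a a' : GL D.Idx F} (ha : a ∈ (hF.tsys F).H)
    (hn : n = a * (hF.tsys F).nW w) (ha' : a' ∈ (hF.tsys F).H)
    (hn' : n' = a' * (hF.tsys F).nW w') (hnn : w = w' → n = n') (g : ↥(D.group F))
    (hg : (g : GL D.Idx F) = n'⁻¹) :
    Psi hF (regAct D F k) (stdVec hF χ) w n g = if w = w' then 1 else 0 := by
  classical
  haveI := Fintype.ofFinite ↥((hF.tsys F).US (TorusSys.invList (hF := hF) w⁻¹))
  have hnG : n ∈ D.group F := hn ▸ mul_mem (H_mem hF ha) (StChar.nW_mem_group hF w)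
  have hval : ∀ u : ↥((hF.tsys F).US (TorusSys.invList (hF := hF) w⁻¹)),
      (regAct D F k).ρ ((u : GL D.Idx F) * n) (stdVec hF χ) g =
        if w = w' ∧ u = 1 then 1 else 0 := by
    intro u
    have huG := U_mem hF (US_inv_le_U hF _ u.2)
    rw [regAct_apply (mul_mem huG hnG)]
    split_ifs with h
    · rw [stdVec_eq hF hinj χ (u := 1) (c := 1) (one_mem _) ?_, map_one, Units.val_one]
      show (g : GL D.Idx F) * ((u : GL D.Idx F) * n) = _
      rw [h.2, Subgroup.coe_one, hg, hnn h.1, map_one]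
      group
    · refine stdVec_zero hF χ fun hB => h ?_
      have hB' : n'⁻¹ * (u : GL D.Idx F) * n ∈ (hF.tsys F).B := by
        rw [mul_assoc, ← hg]; exact hB
      obtain ⟨b1, hb1, e1⟩ := nW_inv hF w' ha' hn'
      obtain ⟨b2, hb2, e2⟩ := nW_inv hF w ha hn
      set X := n'⁻¹ * (u : GL D.Idx F) * n with hX
      have hdec := hF.bruhat_unique (w := w⁻¹) (v := w'⁻¹) (b := b2) (b' := X⁻¹ * b1)
        (u := (u : GL D.Idx F)⁻¹) (u' := 1) ((hF.tsys F).H_le_B hb2)
        (mul_mem (inv_mem hB') ((hF.tsys F).H_le_B hb1)) (inv_mem u.2) (one_mem _) (by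
          rw [← e2, mul_one, mul_assoc, ← e1, hX]
          group)
      exact ⟨inv_injective hdec.1, Subtype.ext (inv_eq_one.1 hdec.2.2)⟩
  rw [Psi, finsum_eq_sum_of_fintype, Finset.sum_apply, Finset.sum_congr rfl fun u _ => hval u]
  split_ifs with h
  · simp [h]
  · simp [h]

end Cfsg.Agent.Small.Modular
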