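import Mathlib

/-!
Over an algebraically closed field of characteristic p, a finite group has as many blocks in the
semisimple quotient of its algebra as it has classes of elements of order prime to p.
-/

set_option autoImplicit false

namespace Cfsg.Agent.Small.Modular

open MonoidAlgebra

variable {k : Type*} [Field k] {G : Type*} [Group G]

/-- The linear functional with values f on the group. -/
noncomputable def fun' (f : G → k) : MonoidAlgebra k G →ₗ[k] k :=
  (MonoidAlgebra.basis G k).constr k f

theorem fun'_of (f : G → k) (g : G) : fun' f (of k G g) = f g := by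
  have := (MonoidAlgebra.basis G k).constr_basis k f g
  simpa [fun', MonoidAlgebra.of_apply] using this

theorem expand [Fintype G] (x : MonoidAlgebra k G) :
    x = ∑ g, (MonoidAlgebra.basis G k).repr x g • of k G g := by
  conv_lhs => rw [← (MonoidAlgebra.basis G k).sum_repr x]
  simp [MonoidAlgebra.of_apply]

theorem expand_pow [Fintype G] (a : G → k) : ∀ n : ℕ,
    (∑ g, a g • of k G g) ^ n = ∑ w : Fin n → G, (∏ i, a (w i)) • of k G (List.ofFn w).prod := by
  intro n
  induction n with
  | zero => simp [MonoidAlgebra.one_def, MonoidAlgebra.of_apply]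
  | succ n ih =>
    rw [pow_succ', ih, Finset.sum_mul_sum, ← Fintype.sum_prod_type',
      ← (Fin.consEquiv fun _ => G).sum_comp]
    refine Finset.sum_congr rfl fun z _ => ?_
    simp [Fin.prod_univ_succ, List.ofFn_succ, smul_smul, mul_comm (a z.1)]

/-- Product of the values of w along the cycle starting at c. -/
def cyc {p : ℕ} (w : ZMod p → G) (c : ZMod p) : G :=
  ((List.range p).map fun j : ℕ => w (c + j)).prod

theorem cyc_succ {p : ℕ} (hp : 0 < p) (w : ZMod p → G) (c : ZMod p) :
    cyc w (c + 1) = (w c)⁻¹ * cyc w c * w c := by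
  obtain ⟨q, rfl⟩ : ∃ q, p = q + 1 := ⟨p - 1, by omega⟩
  have hlast : w (c + 1 + (q : ZMod (q + 1))) = w c := by
    rw [add_assoc, show (1 : ZMod (q + 1)) + (q : ZMod (q + 1)) = ((q + 1 : ℕ) : ZMod (q + 1)) by
      push_cast; ring, ZMod.natCast_self, add_zero]
  unfold cyc
  conv_lhs => rw [List.range_succ]
  conv_rhs => rw [List.range_succ_eq_map]
  simp only [List.map_append, List.map_cons, List.map_nil, List.prod_append, List.prod_cons,
    List.prod_nil, mul_one, List.map_map, Nat.cast_zero, add_zero, hlast]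
  rw [← mul_assoc, inv_mul_cancel, one_mul]
  congr 2
  refine List.map_congr_left fun j _ => ?_
  simp only [Function.comp, Nat.succ_eq_add_one]
  congr 1
  push_cast
  ring

theorem cyc_conj {p : ℕ} (hp : 0 < p) {f : G → k} (hf : ∀ a g : G, f (a⁻¹ * g * a) = f g)
    (w : ZMod p → G) (m : ℕ) : f (cyc w (m : ZMod p)) = f (cyc w 0) := by
  induction m with
  | zero => simp
  | succ m ih => rw [Nat.cast_succ, cyc_succ hp, hf, ih]

/-- The sum of a rotation invariant function is the sum over constant families. -/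
theorem sum_rot [Fintype G] (p : ℕ) [Fact p.Prime] [CharP k p] (φ : (ZMod p → G) → k)
    (hφ : ∀ (w : ZMod p → G) (c : ZMod p), φ (fun j => w (j + c)) = φ w) :
    ∑ w, φ w = ∑ g : G, φ fun _ => g := by
  classical
  set S : Finset (ZMod p → G) := Finset.univ.image fun g : G => fun _ => g with hS
  rw [← Finset.sum_image (s := Finset.univ) (g := fun g : G => (fun _ => g : ZMod p → G)) (f := φ)
    (fun a _ b _ e => congrFun e 0), ← hS,
    ← Finset.sum_fiberwise_of_maps_to (t := Finset.univ.image φ)
      (fun w _ => Finset.mem_image_of_mem φ (Finset.mem_univ w)) φ,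
    ← Finset.sum_fiberwise_of_maps_to (s := S) (t := Finset.univ.image φ)
      (fun w _ => Finset.mem_image_of_mem φ (Finset.mem_univ w)) φ]
  refine Finset.sum_congr rfl fun v _ => ?_
  rw [Finset.sum_congr rfl fun w hw => (Finset.mem_filter.1 hw).2,
    Finset.sum_congr rfl fun w hw => (Finset.mem_filter.1 hw).2, Finset.sum_const, Finset.sum_const,
    ← Nat.cast_smul_eq_nsmul k, ← Nat.cast_smul_eq_nsmul k]
  congr 1
  refine (CharP.natCast_eq_natCast k p).2 ?_
  let act : MulAction (Multiplicative (ZMod p)) {w : ZMod p → G // φ w = v} :=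
    { smul := fun c w => ⟨fun j => w.1 (j + c.toAdd), (hφ w.1 c.toAdd).trans w.2⟩
      one_smul := fun w => Subtype.ext (funext fun j => congrArg w.1 (add_zero j))
      mul_smul := fun c c' w => Subtype.ext (funext fun j => congrArg w.1 (by
        show j + (c.toAdd + c'.toAdd) = j + c.toAdd + c'.toAdd
        rw [add_assoc])) }
  have hP : IsPGroup p (Multiplicative (ZMod p)) := IsPGroup.of_card (n := 1) (by simp)
  have h := hP.card_modEq_card_fixedPoints {w : ZMod p → G // φ w = v}
  rw [← Fintype.card_subtype, ← Nat.card_eq_fintype_card]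
  suffices h0 : Nat.card ↑(MulAction.fixedPoints (Multiplicative (ZMod p))
      {w : ZMod p → G // φ w = v}) = (S.filter (fun w => φ w = v)).card by
    rw [h0] at h; exact h
  rw [← Nat.card_eq_finsetCard]
  have hmem : ∀ (w : ZMod p → G) (hw : φ w = v),
      (⟨w, hw⟩ : {w : ZMod p → G // φ w = v}) ∈
        MulAction.fixedPoints (Multiplicative (ZMod p)) {w : ZMod p → G // φ w = v} →
      w ∈ S.filter (fun w => φ w = v) := by
    intro w hw h
    refine Finset.mem_filter.2 ⟨Finset.mem_image.2 ⟨w 0, Finset.mem_univ _, funext fun j => ?_⟩, hw⟩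
    have := congrFun (congrArg Subtype.val (h (Multiplicative.ofAdd j))) 0
    change w (0 + j) = w 0 at this
    rw [zero_add] at this
    exact this.symm
  refine Nat.card_congr
    { toFun := fun w => ⟨w.1.1, hmem _ w.1.2 w.2⟩
      invFun := fun w => ⟨⟨w.1, (Finset.mem_filter.1 w.2).2⟩, fun c => ?_⟩
      left_inv := fun _ => rfl
      right_inv := fun _ => rfl }
  obtain ⟨g, -, hg⟩ := Finset.mem_image.1 (Finset.mem_filter.1 w.2).1
  refine Subtype.ext ?_
  show (fun j => w.1 (j + c.toAdd)) = w.1
  rw [← hg]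

/-- A class functional of a p-th power. -/
theorem fun'_pow [Fintype G] (p : ℕ) [Fact p.Prime] [CharP k p] {f f' : G → k}
    (hf : ∀ a g : G, f (a⁻¹ * g * a) = f g) (hff : ∀ g, f' g ^ p = f (g ^ p))
    (x : MonoidAlgebra k G) : fun' f (x ^ p) = fun' f' x ^ p := by
  classical
  have hp : 0 < p := (Fact.out : p.Prime).pos
  rw [expand x, expand_pow]
  simp only [map_sum, map_smul, fun'_of, smul_eq_mul]
  set a : G → k := fun g => (MonoidAlgebra.basis G k).repr x g
  rw [sum_pow_char]
  simp only [mul_pow, hff]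
  let φ : (ZMod p → G) → k := fun w => (∏ j, a (w j)) * f (cyc w 0)
  have hφ : ∀ (w : ZMod p → G) (c : ZMod p), φ (fun j => w (j + c)) = φ w := by
    intro w c
    show _ * f (cyc _ 0) = _
    congr 1
    · exact Equiv.prod_comp (Equiv.addRight c) fun j => a (w j)
    · rw [← cyc_conj hp hf w c.val, ZMod.natCast_zmod_val]
      refine congrArg f ?_
      unfold cyc
      exact congrArg List.prod (List.map_congr_left fun j _ => by simp [add_comm])
  have hmain := sum_rot p φ hφ
  have e1 : ∀ g : G, φ (fun _ => g) = a g ^ p * f (g ^ p) := fun g => by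
    simp [φ, cyc, List.prod_replicate]
  simp only [e1] at hmain
  rw [← hmain]
  obtain ⟨e, he⟩ : ∃ e : Fin p ≃ ZMod p, ∀ j : Fin p, e j = ((j : ℕ) : ZMod p) :=
    ⟨{ toFun := fun j => ((j : ℕ) : ZMod p)
       invFun := fun z => ⟨z.val, ZMod.val_lt z⟩
       left_inv := fun j => Fin.ext (ZMod.val_natCast_of_lt j.isLt)
       right_inv := fun z => ZMod.natCast_zmod_val z }, fun _ => rfl⟩
  refine Fintype.sum_equiv (e.arrowCongr (Equiv.refl G)) _ _ fun w => ?_
  have hw : ∀ j : Fin p, (e.arrowCongr (Equiv.refl G) w) (e j) = w j := fun j => by simp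
  show _ = (∏ j, a ((e.arrowCongr (Equiv.refl G) w) j)) * f (cyc (e.arrowCongr (Equiv.refl G) w) 0)
  rw [← e.prod_comp]
  congr 1
  · simp only [hw, a]
  · congr 1
    rw [cyc]
    congr 1
    refine List.ext_getElem (by simp) fun j h1 h2 => ?_
    have hj : j < p := by simpa using h1
    simp only [List.getElem_ofFn, List.getElem_map, List.getElem_range, zero_add]
    rw [← hw ⟨j, hj⟩, he]

/-- Iterated p-th powers. -/
theorem fun'_pow_pow [Fintype G] (p : ℕ) [Fact p.Prime] [CharP k p] {f : G → k}
    (hf : ∀ a g : G, f (a⁻¹ * g * a) = f g) (h01 : ∀ g, f g ^ p = f g) (n : ℕ)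
    (x : MonoidAlgebra k G) :
    fun' f (x ^ p ^ n) = fun' (fun g => f (g ^ p ^ n)) x ^ p ^ n := by
  induction n generalizing f with
  | zero => simp
  | succ n ih =>
    rw [pow_succ p n, pow_mul, fun'_pow p hf (f' := fun g => f (g ^ p)) (fun g => h01 _),
      ih (f := fun g => f (g ^ p)) (fun a g => ?_) (fun g => h01 _), ← pow_mul]
    · simp only [← pow_mul]
    · have e : (a⁻¹ * g * a) ^ p = a⁻¹ * g ^ p * a := by
        simpa using (conj_pow (i := p) (a := a⁻¹) (b := g))
      show f ((a⁻¹ * g * a) ^ p) = f (g ^ p)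
      rw [e, hf]

/-- An exponent extracting the part of order prime to p. -/
theorem exists_regular_exponent [Finite G] (p : ℕ) [Fact p.Prime] : ∃ m : ℕ, 0 < m ∧ ∀ g : G,
    (orderOf (g ^ p ^ m)).Coprime p ∧ ((orderOf g).Coprime p → g ^ p ^ m = g) := by
  have hp : p.Prime := Fact.out
  have hN : Nat.card G ≠ 0 := Nat.card_pos.ne'
  set a := (Nat.card G).factorization p with ha
  set r := Nat.card G / p ^ a with hr
  have hrp : Nat.Coprime p r := Nat.coprime_ordCompl hp hN
  have hmul : p ^ a * r = Nat.card G := Nat.ordProj_mul_ordCompl_eq_self _ p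
  have hr0 : 0 < r := Nat.pos_of_ne_zero fun h => by rw [h, mul_zero] at hmul; exact hN hmul.symm
  refine ⟨(a + 1) * r.totient, Nat.mul_pos a.succ_pos (Nat.totient_pos.2 hr0), fun g => ⟨?_, fun hg => ?_⟩⟩
  · have hle : a ≤ (a + 1) * r.totient :=
      (Nat.le_succ a).trans (Nat.le_mul_of_pos_right _ (Nat.totient_pos.2 hr0))
    have h1 : orderOf (g ^ p ^ ((a + 1) * r.totient)) ∣ r := by
      refine orderOf_dvd_of_pow_eq_one ?_
      rw [← pow_mul, ← orderOf_dvd_iff_pow_eq_one]
      refine (orderOf_dvd_natCard g).trans ?_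
      rw [← hmul]
      exact mul_dvd_mul_right (pow_dvd_pow p hle) r
    exact (Nat.Coprime.coprime_dvd_left h1 hrp.symm)
  · have h1 : orderOf g ∣ r := by
      have h2 := orderOf_dvd_natCard g
      rw [← hmul] at h2
      exact (Nat.Coprime.pow_right a hg).dvd_of_dvd_mul_left h2
    have h2 : p ^ ((a + 1) * r.totient) ≡ 1 [MOD orderOf g] := by
      refine Nat.ModEq.of_dvd h1 ?_
      rw [mul_comm, pow_mul]
      simpa using (Nat.ModEq.pow_totient hrp).pow (a + 1)
    conv_rhs => rw [← pow_one g]
    exact pow_eq_pow_iff_modEq.2 h2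

theorem pow_reg_pow [Finite G] {p m : ℕ}
    (hm : ∀ g : G, (orderOf (g ^ p ^ m)).Coprime p ∧ ((orderOf g).Coprime p → g ^ p ^ m = g))
    (g : G) (j : ℕ) : g ^ p ^ (m * (j + 1)) = g ^ p ^ m := by
  induction j with
  | zero => simp
  | succ j ih =>
    rw [Nat.mul_succ, pow_add, pow_mul, ih, (hm (g ^ p ^ m)).2 (hm g).1]

/-- In a matrix algebra, a left ideal whose elements have no common kernel is everything. -/
theorem matrix_left_ideal {d : ℕ} (I : Submodule k (Matrix (Fin d) (Fin d) k))
    (hI : ∀ M N, N ∈ I → M * N ∈ I)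
    (h : ∀ v : Fin d → k, (∀ M ∈ I, M.mulVec v = 0) → v = 0) : I = ⊤ := by
  classical
  let R : Submodule k (Fin d → k) :=
    Submodule.span k {r | ∃ M ∈ I, ∃ a, r = fun b => M a b}
  have hR : R = ⊤ := by
    by_contra hne
    obtain ⟨φ, hφ0, hφ⟩ := Submodule.exists_le_ker_of_lt_top R (lt_top_iff_ne_top.2 hne)
    let v : Fin d → k := fun b => φ (Pi.single b 1)
    have hφv : ∀ r : Fin d → k, φ r = ∑ b, r b * v b := fun r => by
      conv_lhs => rw [pi_eq_sum_univ' r, map_sum]
      exact Finset.sum_congr rfl fun b _ => by rw [map_smul, smul_eq_mul]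
    have hv : v = 0 := h v fun M hM => funext fun a =>
      (hφv fun b => M a b).symm.trans (hφ (Submodule.subset_span ⟨M, hM, a, rfl⟩))
    exact hφ0 (LinearMap.ext fun r => by simp [hφv r, hv])
  have hrow : ∀ (a : Fin d) (r : Fin d → k), r ∈ R →
      (Matrix.of fun i j => if i = a then r j else 0) ∈ I := by
    intro a r hr
    induction hr using Submodule.span_induction with
    | mem r hr =>
      obtain ⟨M, hM, c, rfl⟩ := hr
      convert hI (Matrix.single a c (1 : k)) M hM using 1
      ext i j
      by_cases hi : i = a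
      · subst hi; simp
      · simp [hi]
    | zero => convert I.zero_mem using 1; ext i j; simp
    | add u v _ _ hu hv => convert I.add_mem hu hv using 1; ext i j; simp; split_ifs <;> simp
    | smul c u _ hu => convert I.smul_mem c hu using 1; ext i j; simp
  refine eq_top_iff.2 fun M _ => ?_
  have : M = ∑ a, Matrix.of fun i j => if i = a then M a j else 0 := by
    ext i j; simp [Matrix.sum_apply]
  rw [this]
  exact I.sum_mem fun a _ => hrow a _ (by rw [hR]; trivial)

/-- The semisimple quotient of the group algebra. -/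
theorem exists_blocks [Fintype G] [IsAlgClosed k] :
    ∃ (n : ℕ) (d : Fin n → ℕ)
      (π : MonoidAlgebra k G →ₐ[k] ((i : Fin n) → Matrix (Fin (d i)) (Fin (d i)) k)),
      (∀ i, 0 < d i) ∧ Function.Surjective π ∧ ∀ x, π x = 0 → IsNilpotent x := by
  haveI : IsArtinianRing (MonoidAlgebra k G) := IsArtinianRing.of_finite k _
  obtain ⟨n, d, hd, ⟨e⟩⟩ := IsSemisimpleRing.exists_algEquiv_pi_matrix_of_isAlgClosed k
    (MonoidAlgebra k G ⧸ Ring.jacobson (MonoidAlgebra k G))
  refine ⟨n, d, e.toAlgHom.comp (Ideal.Quotient.mkₐ k (Ring.jacobson (MonoidAlgebra k G))),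
    fun i => Nat.pos_of_ne_zero (hd i).out,
    e.surjective.comp (Ideal.Quotient.mkₐ_surjective k _), fun x hx => ?_⟩
  have h1 : Ideal.Quotient.mkₐ k (Ring.jacobson (MonoidAlgebra k G)) x = 0 :=
    e.injective (by simpa using hx)
  rw [Ideal.Quotient.mkₐ_eq_mk, Ideal.Quotient.eq_zero_iff_mem] at h1
  obtain ⟨N, hN⟩ : IsNilpotent (Ring.jacobson (MonoidAlgebra k G)) := IsSemiprimaryRing.isNilpotent
  refine ⟨N, ?_⟩
  have := Ideal.pow_mem_pow h1 N
  rwa [hN] at this

variable {n : ℕ} {d : Fin n → ℕ}
  (π : MonoidAlgebra k G →ₐ[k] ((i : Fin n) → Matrix (Fin (d i)) (Fin (d i)) k))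

include π in
/-- A proper left ideal has a common kernel vector in some block. -/
theorem exists_kernel_vector (hsurj : Function.Surjective π)
    (hnil : ∀ x, π x = 0 → IsNilpotent x) (L : Ideal (MonoidAlgebra k G)) (hL : L ≠ ⊤) :
    ∃ (i : Fin n) (v : Fin (d i) → k), v ≠ 0 ∧ ∀ a ∈ L, (π a i).mulVec v = 0 := by
  classical
  by_contra hcon
  push Not at hcon
  refine hL ?_
  have hblock : ∀ i, ∃ b ∈ L, π b = Pi.single i 1 := by
    intro i
    let I : Submodule k (Matrix (Fin (d i)) (Fin (d i)) k) :=
      (L.restrictScalars k).map ((LinearMap.proj i).comp π.toLinearMap)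
    have hI : I = ⊤ := by
      refine matrix_left_ideal I (fun M N hN => ?_) fun v hv => ?_
      · obtain ⟨b, hb, rfl⟩ := hN
        obtain ⟨c, hc⟩ := hsurj (Pi.single i M)
        exact ⟨c * b, L.mul_mem_left c hb, by simp [hc]⟩
      · by_contra hv0
        obtain ⟨a, ha, hne⟩ := hcon i v hv0
        exact hne (hv _ ⟨a, ha, rfl⟩)
    obtain ⟨b, hb, hb1⟩ : (1 : Matrix (Fin (d i)) (Fin (d i)) k) ∈ I := by rw [hI]; trivial
    obtain ⟨c, hc⟩ := hsurj (Pi.single i 1)
    refine ⟨c * b, L.mul_mem_left c hb, funext fun j => ?_⟩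
    rcases eq_or_ne j i with rfl | hj
    · simpa [hc] using hb1
    · simp [hc, hj]
  choose b hbL hb using hblock
  have h1 : π (1 - ∑ i, b i) = 0 := by
    rw [map_sub, map_one, map_sum, Finset.sum_congr rfl fun i _ => hb i,
      show (∑ i : Fin n, (Pi.single i 1 : (j : Fin n) → Matrix (Fin (d j)) (Fin (d j)) k)) = 1
        from Finset.univ_sum_single _, sub_self]
  have hu := (hnil _ h1).isUnit_one_sub
  rw [sub_sub_cancel] at hu
  exact Ideal.eq_top_of_isUnit_mem L (Submodule.sum_mem _ fun i _ => hbL i) hu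

include π in
theorem trace_pow_reg [Fintype G] (p : ℕ) [Fact p.Prime] [CharP k p] (m : ℕ)
    (hm : ∀ g : G, (orderOf (g ^ p ^ m)).Coprime p ∧ ((orderOf g).Coprime p → g ^ p ^ m = g))
    (i : Fin n) (g : G) :
    (π (of k G (g ^ p ^ m)) i).trace = (π (of k G g) i).trace := by
  classical
  have hcs : Commute (g ^ p ^ m) ((g ^ p ^ m)⁻¹ * g) :=
    (Commute.refl _).inv_right.mul_right ((Commute.refl g).pow_left _)
  have hu : ((g ^ p ^ m)⁻¹ * g) ^ p ^ m = 1 := by
    have hc : Commute (g ^ p ^ m)⁻¹ g := ((Commute.refl g).pow_left _).inv_left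
    rw [hc.mul_pow, inv_pow, (hm _).2 (hm g).1, inv_mul_cancel]
  have hx : IsNilpotent (of k G (g ^ p ^ m) * (of k G ((g ^ p ^ m)⁻¹ * g) - 1)) := by
    refine Commute.isNilpotent_mul_left ?_ ⟨p ^ m, ?_⟩
    · exact (Commute.map hcs (of k G)).sub_right (Commute.one_right _)
    · haveI : CharP (MonoidAlgebra k G) p := charP_of_injective_algebraMap' k p
      rw [sub_pow_char_pow_of_commute p m (Commute.one_right _), ← map_pow, hu, one_pow, map_one,
        sub_self]
  rw [mul_sub, mul_one, ← map_mul, mul_inv_cancel_left] at hx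
  have h2 := Matrix.isNilpotent_trace_of_isNilpotent
    (hx.map ((Pi.evalRingHom _ i).comp π.toRingHom))
  have h3 := h2.eq_zero
  simp only [RingHom.coe_comp, Function.comp_apply, Pi.evalRingHom_apply, AlgHom.toRingHom_eq_coe,
    RingHom.coe_coe, map_sub, Pi.sub_apply, Matrix.trace_sub, sub_eq_zero] at h3
  exact h3.symm

include π in
/-- The number of blocks is the number of classes of elements of order prime to p. -/
theorem card_regular_classes [Fintype G] (p : ℕ) [Fact p.Prime] [CharP k p] (hd : ∀ i, 0 < d i)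
    (hsurj : Function.Surjective π) (hnil : ∀ x, π x = 0 → IsNilpotent x) :
    Nat.card {c : ConjClasses G // ∃ g : G, ConjClasses.mk g = c ∧ (orderOf g).Coprime p} = n := by
  classical
  obtain ⟨m, hm0, hm⟩ := exists_regular_exponent (G := G) p
  let C := {c : ConjClasses G // ∃ g : G, ConjClasses.mk g = c ∧ (orderOf g).Coprime p}
  haveI : Fintype C := Fintype.ofFinite C
  show Nat.card C = n
  let rep : C → G := fun c => c.2.choose
  have hrep : ∀ c : C, ConjClasses.mk (rep c) = c.1 ∧ (orderOf (rep c)).Coprime p :=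
    fun c => c.2.choose_spec
  let cls : G → C := fun g => ⟨ConjClasses.mk (g ^ p ^ m), _, rfl, (hm g).1⟩
  have hcls : ∀ c, cls (rep c) = c := fun c =>
    Subtype.ext (by show ConjClasses.mk _ = _; rw [(hm _).2 (hrep c).2]; exact (hrep c).1)
  -- traces of the blocks as functions of classes
  let τ : Fin n → MonoidAlgebra k G →ₗ[k] k := fun i =>
    (Matrix.traceLinearMap _ k k).comp ((LinearMap.proj i).comp π.toLinearMap)
  have hτ : ∀ i x, τ i x = (π x i).trace := fun i x => rfl
  have hτc : ∀ i (a g : G), τ i (of k G (a⁻¹ * g * a)) = τ i (of k G g) := by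
    intro i a g
    rw [hτ, hτ, map_mul, map_mul, map_mul, map_mul, Pi.mul_apply, Pi.mul_apply, Matrix.trace_mul_comm,
      ← mul_assoc, ← Pi.mul_apply, ← map_mul, ← map_mul, mul_inv_cancel, map_one, map_one,
      Pi.one_apply, one_mul]
  have hτr : ∀ i g, τ i (of k G g) = τ i (of k G (rep (cls g))) := by
    intro i g
    rw [hτ i (of k G g), ← trace_pow_reg π p m hm i g, ← hτ]
    obtain ⟨a, ha⟩ := isConj_iff.1 (ConjClasses.mk_eq_mk_iff_isConj.1 (hrep (cls g)).1)
    rw [← ha]
    simpa [mul_assoc] using hτc i a⁻¹ (rep (cls g))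
  have hunit : ∀ i, ∃ x, ∀ j, τ j x = if j = i then 1 else 0 := by
    intro i
    obtain ⟨x, hx⟩ := hsurj (Pi.single i (Matrix.single ⟨0, hd i⟩ ⟨0, hd i⟩ 1))
    refine ⟨x, fun j => ?_⟩
    rw [hτ, hx]
    rcases eq_or_ne j i with rfl | hj
    · simp
    · simp [hj]
  choose e he using hunit
  have hle : n ≤ Nat.card C := by
    let Φ : (Fin n → k) →ₗ[k] (C → k) :=
      Fintype.linearCombination k fun i c => τ i (of k G (rep c))
    have hΦ : Function.Injective Φ := by
      rw [← LinearMap.ker_eq_bot, LinearMap.ker_eq_bot']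
      intro z hz
      funext i
      have h0 : ∀ g, ∑ j, z j * τ j (of k G g) = 0 := fun g => by
        have := congrFun hz (cls g)
        rw [Finset.sum_congr rfl fun j _ => by rw [hτr j g]]
        simpa [Φ, Fintype.linearCombination_apply] using this
      have : ∑ j, z j * τ j (e i) = 0 := by
        rw [expand (e i)]
        simp only [map_sum, map_smul, smul_eq_mul, Finset.mul_sum]
        rw [Finset.sum_comm]
        refine Finset.sum_eq_zero fun g _ => ?_
        simp only [mul_left_comm _ ((MonoidAlgebra.basis G k).repr (e i) g), ← Finset.mul_sum, h0,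
          mul_zero]
      simpa [he] using this
    have := LinearMap.finrank_le_finrank_of_injective hΦ
    simpa [Nat.card_eq_fintype_card] using this
  refine le_antisymm ?_ hle
  -- class indicators factor through the blocks
  let ind : C → G → k := fun c g => if cls g = c then 1 else 0
  have hconj : ∀ (a g : G), cls (a⁻¹ * g * a) = cls g := fun a g => by
    refine Subtype.ext (ConjClasses.mk_eq_mk_iff_isConj.2 (isConj_iff.2 ⟨a, ?_⟩))
    rw [show (a⁻¹ * g * a) ^ p ^ m = a⁻¹ * g ^ p ^ m * a by
      simpa using (conj_pow (i := p ^ m) (a := a⁻¹) (b := g))]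
    group
  have hkill : ∀ c x, π x = 0 → fun' (ind c) x = 0 := by
    intro c x hx
    obtain ⟨N, hN⟩ := hnil x hx
    let f : G → k := fun g => if ConjClasses.mk g = c.1 then 1 else 0
    have hfc : ∀ a g : G, f (a⁻¹ * g * a) = f g := fun a g => by
      have : ConjClasses.mk (a⁻¹ * g * a) = ConjClasses.mk g :=
        ConjClasses.mk_eq_mk_iff_isConj.2 (isConj_iff.2 ⟨a, by group⟩)
      simp only [f, this]
    have h01 : ∀ g, f g ^ p = f g := fun g => by
      simp only [f]; split_ifs <;> simp [(Fact.out : p.Prime).ne_zero]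
    have hpow := fun'_pow_pow p hfc h01 (m * (N + 1)) x
    have hnilpow : x ^ p ^ (m * (N + 1)) = 0 :=
      pow_eq_zero_of_le ((Nat.le_of_lt (Nat.lt_succ_self N)).trans
        ((Nat.le_mul_of_pos_left _ hm0).trans (Nat.lt_pow_self (Fact.out : p.Prime).one_lt).le)) hN
    rw [hnilpow, map_zero] at hpow
    have e1 : (fun g => f (g ^ p ^ (m * (N + 1)))) = ind c := funext fun g => by
      simp only [f, ind, cls, pow_reg_pow hm]
      exact if_congr (Iff.intro (fun h => Subtype.ext h) fun h => congrArg Subtype.val h) rfl rfl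
    rw [e1] at hpow
    exact eq_zero_of_pow_eq_zero hpow.symm
  have hcomm : ∀ (c : C) (a b : MonoidAlgebra k G),
      fun' (ind c) (a * b) = fun' (ind c) (b * a) := by
    intro c a b
    rw [expand a, expand b]
    simp only [Finset.sum_mul, Finset.mul_sum, map_sum, smul_mul_assoc, mul_smul_comm, map_smul,
      smul_eq_mul, ← map_mul, fun'_of]
    rw [Finset.sum_comm]
    refine Finset.sum_congr rfl fun h _ => Finset.sum_congr rfl fun g _ => ?_
    have hc : ind c (h * g) = ind c (g * h) := by
      show (if cls (h * g) = c then _ else _) = if cls (g * h) = c then _ else _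
      rw [← hconj g (g * h), show g⁻¹ * (g * h) * g = h * g by group]
    rw [hc]
    ring
  let s : ((i : Fin n) → Matrix (Fin (d i)) (Fin (d i)) k) → MonoidAlgebra k G :=
    fun y => (hsurj y).choose
  have hs : ∀ y, π (s y) = y := fun y => (hsurj y).choose_spec
  have hFs : ∀ c x, fun' (ind c) x = fun' (ind c) (s (π x)) := fun c x =>
    sub_eq_zero.1 (by rw [← map_sub]; exact hkill c _ (by rw [map_sub, hs, sub_self]))
  have hform : ∀ c x, fun' (ind c) x = ∑ i, fun' (ind c) (e i) * τ i x := by
    intro c x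
    let Φ : ((i : Fin n) → Matrix (Fin (d i)) (Fin (d i)) k) →ₗ[k] k :=
      { toFun := fun y => fun' (ind c) (s y)
        map_add' := fun y z => by
          rw [← hs y, ← hs z, ← map_add, ← hFs, ← hFs, ← hFs, map_add]
        map_smul' := fun r y => by
          rw [← hs y, ← map_smul, ← hFs, ← hFs, map_smul, RingHom.id_apply] }
    have hΦc : ∀ y z, Φ (y * z) = Φ (z * y) := fun y z => by
      show fun' (ind c) (s (y * z)) = fun' (ind c) (s (z * y))
      rw [← hs y, ← hs z, ← map_mul, ← map_mul, ← hFs, ← hFs, hcomm]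
    let E : ∀ i : Fin n, Fin (d i) → Fin (d i) → ((j : Fin n) → Matrix (Fin (d j)) (Fin (d j)) k) :=
      fun i a b => Pi.single i (Matrix.single a b 1)
    have hE : ∀ i a b b' a', E i a b * E i b' a' = if b = b' then E i a a' else 0 := by
      intro i a b b' a'
      simp only [E, ← Pi.single_mul]
      split_ifs with h
      · subst h; simp
      · simp [h]
    have hoff : ∀ i a b, Φ (E i a b) = if a = b then Φ (E i ⟨0, hd i⟩ ⟨0, hd i⟩) else 0 := by
      intro i a b
      have h1 := hΦc (E i a ⟨0, hd i⟩) (E i ⟨0, hd i⟩ b)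
      rw [hE, hE, if_pos rfl] at h1
      rw [h1]
      rcases eq_or_ne a b with rfl | hab
      · simp
      · rw [if_neg hab, if_neg (Ne.symm hab), map_zero]
    have hΦx : ∀ y, Φ y = ∑ i, (y i).trace * Φ (E i ⟨0, hd i⟩ ⟨0, hd i⟩) := by
      intro y
      have hy : y = ∑ i, ∑ a, ∑ b, y i a b • E i a b := by
        conv_lhs => rw [← Finset.univ_sum_single y]
        refine Finset.sum_congr rfl fun i _ => ?_
        rw [show (Pi.single i (y i) : (j : Fin n) → Matrix (Fin (d j)) (Fin (d j)) k) =
          LinearMap.single k (fun j => Matrix (Fin (d j)) (Fin (d j)) k) i (y i) from rfl]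
        conv_lhs => rw [Matrix.matrix_eq_sum_single (y i)]
        simp only [map_sum]
        refine Finset.sum_congr rfl fun a _ => Finset.sum_congr rfl fun b _ => ?_
        show _ = y i a b • LinearMap.single k (fun j => Matrix (Fin (d j)) (Fin (d j)) k) i
          (Matrix.single a b 1)
        rw [← map_smul, Matrix.smul_single, smul_eq_mul, mul_one]
      conv_lhs => rw [hy]
      simp only [map_sum, map_smul, smul_eq_mul]
      refine Finset.sum_congr rfl fun i _ => ?_
      rw [Matrix.trace, Finset.sum_mul]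
      refine Finset.sum_congr rfl fun a _ => ?_
      rw [Finset.sum_eq_single a, hoff, if_pos rfl]
      · rfl
      · intro b _ hb
        rw [hoff, if_neg (Ne.symm hb), mul_zero]
      · simp
    have hx : fun' (ind c) x = Φ (π x) := hFs c x
    rw [hx, hΦx]
    refine Finset.sum_congr rfl fun i _ => ?_
    have hei : fun' (ind c) (e i) = Φ (π (e i)) := hFs c (e i)
    rw [hei, hΦx (π (e i)), Finset.sum_eq_single i, mul_comm]
    · rw [show (π (e i) i).trace = τ i (e i) from rfl, he, if_pos rfl, one_mul, hτ]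
    · intro j _ hj
      rw [show (π (e i) j).trace = τ j (e i) from rfl, he, if_neg hj, zero_mul]
    · simp
  let Φ : (Fin n → k) →ₗ[k] (C → k) :=
    Fintype.linearCombination k fun i c => τ i (of k G (rep c))
  have hΦ : Function.Surjective Φ := by
    intro f
    refine ⟨fun i => ∑ c, f c * fun' (ind c) (e i), funext fun c' => ?_⟩
    simp only [Φ, Fintype.linearCombination_apply, Finset.sum_apply, Pi.smul_apply, smul_eq_mul,
      Finset.sum_mul, mul_assoc]
    rw [Finset.sum_comm]
    simp only [← Finset.mul_sum, ← hform, fun'_of, ind, hcls, mul_ite, mul_one, mul_zero]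
    rw [Finset.sum_eq_single c']
    · rw [if_pos rfl]
    · exact fun b _ hb => if_neg (Ne.symm hb)
    · simp
  have h2 := LinearMap.finrank_le_finrank_of_injective (LinearMap.dualMap_injective_of_surjective hΦ)
  simpa [Nat.card_eq_fintype_card, Subspace.dual_finrank_eq] using h2

end Cfsg.Agent.Small.Modular
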