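import Cfsg.Agent.Lib.Small.Modular.OrbitSums

/-!
Every weight occurs in the regular module of a Chevalley group.
-/

set_option autoImplicit false

namespace Cfsg.Agent.Small.Modular

open Cfsg.Lie Cfsg.Agent.Lie Cfsg.Agent.Small.StModule Matrix Cfsg.Agent.Small.WeylCosets
open scoped MatrixGroups

variable {D : ChevalleyDatum} {F : Type*} [Field F] (hF : Facts D)
variable {k : Type*} [Field k]

include hF in
theorem longest_flip {L : hF.weyl} (hL : ∀ j, L • hF.refSys.α j ∉ hF.refSys.P) (x : Fin D.nroots) :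
    L⁻¹ • x ∈ hF.refSys.P ↔ x ∉ hF.refSys.P := by
  have h := hF.neg_of_simple_neg L hL
  constructor
  · intro h1 hx
    exact (by simpa using h _ h1 : x ∉ hF.refSys.P) hx
  · intro hx
    by_contra h1
    have h2 := h _ ((hF.refSys.neg_mem _).2 h1)
    rw [RefSystem.smul_neg, smul_inv_smul, hF.refSys.neg_mem] at h2
    exact h2 hx

include hF in
theorem co_pr {Z : Finset (Fin D.rank)} {i : Fin D.rank} (hi : i ∉ Z) : ∀ ω : List (Fin D.rank),
    (∀ j ∈ ω, j ∈ Z) → co D (hF.refSys.pr ω • hF.refSys.α i : Fin D.nroots).val i.val = 1 := by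
  intro ω
  induction ω with
  | nil =>
    intro _
    rw [RefSystem.pr_nil, one_smul]
    show co D (D.simple i.val) i.val = 1
    rw [hF.co_simple i.val i.isLt i.val i.isLt, if_pos rfl]
  | cons j ω ih =>
    intro hmem
    have hj : j ≠ i := fun e => hi (e ▸ hmem j List.mem_cons_self)
    rw [RefSystem.pr_cons, mul_smul, show hF.refSys.s j = hF.wS j from rfl, hF.wS_smul,
      hF.co_refl j.val j.isLt _ (Fin.isLt _) i.val i.isLt, if_neg fun e => hj (Fin.ext e).symm]
    rw [sub_zero]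
    exact ih fun l hl => hmem l (List.mem_cons_of_mem _ hl)

include hF in
theorem pr_pos_of_not_mem {Z : Finset (Fin D.rank)} {i : Fin D.rank} (hi : i ∉ Z)
    {v : hF.weyl} (hv : v ∈ WJ hF.refSys (Z : Set (Fin D.rank))) :
    v⁻¹ • hF.refSys.α i ∈ hF.refSys.P := by
  obtain ⟨ω, hω, rfl⟩ := exists_word_mem hF.refSys hv
  rw [← RefSystem.pr_reverse]
  by_contra hc
  obtain ⟨A, j, C, hsplit, hC⟩ := hF.refSys.exchange' _ _ hc
  have hmem : ∀ l ∈ C, l ∈ Z := fun l hl => hω l (List.mem_reverse.1 (by rw [hsplit]; simp [hl]))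
  have hj : j ∈ Z := hω j (List.mem_reverse.1 (by rw [hsplit]; simp))
  have h1 := co_pr hF hi C hmem
  rw [hC] at h1
  have h2 : co D (D.simple j.val) i.val = 1 := h1
  rw [hF.co_simple j.val j.isLt i.val i.isLt, if_neg fun e => hi (by rwa [Fin.ext e])] at h2
  exact zero_ne_one h2

variable [Fintype F] [Fintype Fˣ]

/-- A nonzero highest vector of any admissible weight in the regular module. -/
theorem exists_regular_wt (hinj : Function.Injective (torus D F))
    (hqk : ((Fintype.card F : ℕ) : k) = 0) (χ : (Fin D.rank → Fˣ) →* kˣ)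
    (K : Finset (Fin D.rank)) (hK : Adm χ K) :
    ∃ f, IsWt hF (regAct D F k) χ K f := by
  classical
  haveI := Fintype.ofFinite hF.weyl
  obtain ⟨L, hL, -, -⟩ := StChar.exists_longest' hF
  set Z : Finset (Fin D.rank) :=
    Finset.univ.filter fun i => (∀ t : Fˣ, χ (Pi.mulSingle i t) = 1) ∧ i ∉ K with hZdef
  have hZ : ∀ i ∈ Z, ∀ t : Fˣ, χ (Pi.mulSingle i t) = 1 := fun i hi => (Finset.mem_filter.1 hi).2.1
  set aL := (hF.tsys F).nW L with haL
  have haLG : aL ∈ D.group F := StChar.nW_mem_group hF L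
  have hconjL : ∀ c, aL * torus D F c * aL⁻¹ ∈ (hF.tsys F).H := fun c =>
    (hF.tsys F).nW_H (torus_mem_H hF c)
  let χ₀ : (Fin D.rank → Fˣ) →* kˣ := MonoidHom.mk'
    (fun c => Units.mk0 (chH χ (aL * torus D F c * aL⁻¹)) (chH_ne_zero hF hinj χ (hconjL c)))
    fun a b => Units.ext (by
      show chH χ _ = chH χ _ * chH χ _
      rw [← chH_mul hF hinj χ (hconjL a) (hconjL b), map_mul]
      congr 1
      group)
  set e := stdVec (k := k) hF χ₀ with he
  have heE : Eig hF (regAct D F k) e := by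
    refine ⟨stdVec_U hF hinj χ₀, fun a ha => ?_⟩
    obtain ⟨c, rfl⟩ := exists_coord hF ha
    exact ⟨_, stdVec_eig hF hinj χ₀ c⟩
  -- the action of H on e read through χ
  have hact : ∀ (ω : List (Fin D.rank)) (a : GL D.Idx F), (∀ j ∈ ω, j ∈ Z) → a ∈ (hF.tsys F).H →
      (regAct D F k).ρ (((hF.tsys F).nw ω * aL)⁻¹ * a * ((hF.tsys F).nw ω * aL)) e =
        chH χ a • e := by
    intro ω a hω ha
    have ha' : ((hF.tsys F).nw ω)⁻¹ * a * (hF.tsys F).nw ω ∈ (hF.tsys F).H :=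
      (hF.tsys F).nw_H' ω ha
    obtain ⟨d, hd⟩ := exists_coord hF ((hF.tsys F).nW_H' (w := L) ha')
    rw [← haL] at hd
    have e1 : ((hF.tsys F).nw ω * aL)⁻¹ * a * ((hF.tsys F).nw ω * aL) = torus D F d := by
      rw [hd]; group
    rw [e1, he, stdVec_eig hF hinj χ₀ d]
    congr 1
    show chH χ (aL * torus D F d * aL⁻¹) = chH χ a
    rw [hd, show aL * (aL⁻¹ * (((hF.tsys F).nw ω)⁻¹ * a * (hF.tsys F).nw ω) * aL) * aL⁻¹ =
        ((hF.tsys F).nw ω)⁻¹ * a * (hF.tsys F).nw ω by group]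
    conv_rhs => rw [show a = (hF.tsys F).nw ω * (((hF.tsys F).nw ω)⁻¹ * a * (hF.tsys F).nw ω) *
      ((hF.tsys F).nw ω)⁻¹ by group]
    rw [chH_nw hF hinj χ hZ hω ha']
  set V : Finset hF.weyl := Finset.univ.filter fun v => v ∈ WJ hF.refSys (Z : Set (Fin D.rank))
    with hV
  have hVmem : ∀ v, v ∈ V ↔ v ∈ WJ hF.refSys (Z : Set (Fin D.rank)) := fun v => by simp [hV]
  let wd : hF.weyl → List (Fin D.rank) := fun v =>
    if h : v ∈ WJ hF.refSys (Z : Set (Fin D.rank)) then (exists_word_mem hF.refSys h).choose else []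
  have hwd : ∀ v ∈ V, (∀ j ∈ wd v, j ∈ Z) ∧ hF.refSys.pr (wd v) = v := fun v hv => by
    simp only [wd, dif_pos ((hVmem v).1 hv)]
    exact (exists_word_mem hF.refSys ((hVmem v).1 hv)).choose_spec
  let N : hF.weyl → GL D.Idx F := fun v => (hF.tsys F).nw (wd v) * aL
  have hN : ∀ v ∈ V, ∃ a ∈ (hF.tsys F).H, N v = a * (hF.tsys F).nW (v * L) := by
    intro v hv
    obtain ⟨a, ha, hae⟩ := (hF.tsys F).nw_eq (ω := wd v ++ TorusSys.word L) (w := v * L)
      (by rw [RefSystem.pr_append, (hwd v hv).2, TorusSys.pr_word])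
    rw [TorusSys.nw_append] at hae
    exact ⟨a, ha, hae⟩
  have hNG : ∀ v ∈ V, N v ∈ D.group F := fun v hv => by
    obtain ⟨a, ha, hae⟩ := hN v hv
    rw [hae]
    exact mul_mem (H_mem hF ha) (StChar.nW_mem_group hF _)
  let Φ : hF.weyl → (↥(D.group F) → k) := fun v => Psi hF (regAct D F k) e (v * L) (N v)
  have hΦu : ∀ v ∈ V, UFix hF (regAct D F k) (Φ v) := fun v hv => by
    obtain ⟨a, ha, hae⟩ := hN v hv
    exact Psi_ufix hF (regAct D F k) heE _ ha hae
  have hΦe : ∀ v ∈ V, ∀ c, (regAct D F k).ρ (torus D F c) (Φ v) = (χ c : k) • Φ v := by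
    intro v hv c
    refine Psi_H hF (regAct D F k) e _ (hNG v hv) (torus_mem_H hF c) ?_
    rw [hact (wd v) _ (hwd v hv).1 (torus_mem_H hF c), chH_torus hinj]
  have hΦne : ∀ v ∈ V, Φ v ≠ 0 := by
    intro v hv h0
    obtain ⟨a, ha, hae⟩ := hN v hv
    have h := Psi_eval hF hinj χ₀ (v * L) (v * L) ha hae ha hae (fun _ => rfl)
      ⟨(N v)⁻¹, inv_mem (hNG v hv)⟩ rfl
    rw [if_pos rfl] at h
    have h' : Psi hF (regAct D F k) e (v * L) (N v) ⟨(N v)⁻¹, inv_mem (hNG v hv)⟩ = 0 :=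
      congrFun h0 _
    rw [h] at h'
    exact one_ne_zero h'
  have hasc : ∀ v (i : Fin D.rank), (v * L)⁻¹ • hF.refSys.α i ∈ hF.refSys.P ↔
      v⁻¹ • hF.refSys.α i ∉ hF.refSys.P := fun v i => by
    rw [_root_.mul_inv_rev, mul_smul]; exact longest_flip hF hL _
  have hmul : ∀ i, ∀ v ∈ V, i ∈ Z → hF.wS i * v ∈ V := fun i v hv hi =>
    (hVmem _).2 (mul_mem (s_mem hF.refSys (Finset.mem_coe.2 hi)) ((hVmem v).1 hv))
  have hstep : ∀ i ∈ Z, ∀ v ∈ V, v⁻¹ • hF.refSys.α i ∉ hF.refSys.P →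
      T hF (regAct D F k) i (Φ v) = Φ (hF.wS i * v) := by
    intro i hi v hv hneg
    have hv' := hmul i v hv hi
    have hwd1 : ∀ j ∈ i :: wd v, j ∈ Z := fun j hj =>
      (List.mem_cons.1 hj).elim (fun h => h ▸ hi) ((hwd v hv).1 j)
    obtain ⟨a, ha, ha1, hae⟩ := chH_words hF hinj χ hZ hwd1 (hwd _ hv').1
      (by rw [RefSystem.pr_cons, (hwd v hv).2, (hwd _ hv').2]; rfl)
    show T hF _ i (Psi hF _ e (v * L) (N v)) = Psi hF _ e (hF.wS i * v * L) (N (hF.wS i * v))
    rw [T_Psi hF (regAct D F k) i e (hNG v hv) ((hasc v i).2 hneg), ← mul_assoc]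
    have e1 : (hF.tsys F).nS i * N v =
        N (hF.wS i * v) * ((N (hF.wS i * v))⁻¹ * a * N (hF.wS i * v)) := by
      show (hF.tsys F).nS i * ((hF.tsys F).nw (wd v) * aL) = _
      rw [← mul_assoc, ← TorusSys.nw_cons, hae]
      simp only [N]
      group
    have hNG' := hNG _ hv'
    rw [e1, Psi_smul hF (regAct D F k) e _ hNG'
      (mul_mem (mul_mem (inv_mem hNG') (H_mem hF ha)) hNG') (c := 1)
      (by rw [hact _ _ (hwd _ hv').1 ha, ha1]), one_smul]
  have hTpair : ∀ i ∈ Z, ∀ v ∈ V,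
      T hF (regAct D F k) i (Φ v) + T hF (regAct D F k) i (Φ (hF.wS i * v)) = 0 := by
    intro i hi v hv
    have hflip : ∀ u : hF.weyl, (hF.wS i * u)⁻¹ • hF.refSys.α i ∈ hF.refSys.P ↔
        u⁻¹ • hF.refSys.α i ∉ hF.refSys.P := fun u => by
      rw [_root_.mul_inv_rev, inv_eq_of_mul_eq_one_right (hF.wS_sq i), mul_smul,
        show hF.wS i • hF.refSys.α i = hF.refSys.neg (hF.refSys.α i) from hF.refSys.s_α i,
        RefSystem.smul_neg, hF.refSys.neg_mem]
    have key : ∀ u ∈ V, u⁻¹ • hF.refSys.α i ∉ hF.refSys.P →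
        T hF (regAct D F k) i (Φ u) + T hF (regAct D F k) i (Φ (hF.wS i * u)) = 0 := by
      intro u hu hneg
      rw [← hstep i hi u hu hneg, T_sq hqk χ (hΦne u hu) (hΦu u hu) (hΦe u hu) i,
        if_pos (hZ i hi), neg_one_smul, add_neg_cancel]
    by_cases h : v⁻¹ • hF.refSys.α i ∈ hF.refSys.P
    · have h' : (hF.wS i * v)⁻¹ • hF.refSys.α i ∉ hF.refSys.P := by rw [hflip, not_not]; exact h
      have := key _ (hmul i v hv hi) h'
      rw [← mul_assoc, hF.wS_sq, one_mul, add_comm] at this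
      exact this
    · exact key v hv h
  have hTout : ∀ i, i ∉ Z → ∀ v ∈ V,
      T hF (regAct D F k) i (Φ v) = (if i ∈ K then (-1 : k) else 0) • Φ v := by
    intro i hi v hv
    have hpos := pr_pos_of_not_mem hF hi ((hVmem v).1 hv)
    set n := (hF.tsys F).nS i with hn
    set m := n⁻¹ * N v with hm
    set w' := hF.wS i * (v * L) with hw'
    have hw'asc : w'⁻¹ • hF.refSys.α i ∈ hF.refSys.P := by
      rw [hw', _root_.mul_inv_rev, inv_eq_of_mul_eq_one_right (hF.wS_sq i), mul_smul,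
        show hF.wS i • hF.refSys.α i = hF.refSys.neg (hF.refSys.α i) from hF.refSys.s_α i,
        RefSystem.smul_neg, hF.refSys.neg_mem, hasc, not_not]
      exact hpos
    obtain ⟨a, ha, hae⟩ := hN v hv
    obtain ⟨g1, hg1, hg1e⟩ := (hF.tsys F).nS_inv i
    obtain ⟨g2, hg2, hg2e⟩ := (hF.tsys F).nS_nW i (v * L)
    rw [← hw'] at hg2e
    have hmeq : m = n⁻¹ * a * n * g1 * g2 * (hF.tsys F).nW w' := by
      rw [mul_assoc _ g2, ← hg2e, hm, hae, ← hn, ← mul_assoc _ n, mul_assoc _ g1 n, hn, ← hg1e]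
      group
    have hmH : n⁻¹ * a * n * g1 * g2 ∈ (hF.tsys F).H :=
      mul_mem (mul_mem ((hF.tsys F).nS_H' i ha) hg1) hg2
    have hmG : m ∈ D.group F := by
      rw [hmeq]; exact mul_mem (H_mem hF hmH) (StChar.nW_mem_group hF _)
    set ψ := Psi hF (regAct D F k) e w' m with hψ
    have hT : T hF (regAct D F k) i ψ = Φ v := by
      rw [hψ, T_Psi hF (regAct D F k) i e hmG hw'asc, hw', ← mul_assoc, hF.wS_sq, one_mul, hm, hn,
        mul_inv_cancel_left]
    have hψu : UFix hF (regAct D F k) ψ := Psi_ufix hF (regAct D F k) heE _ hmH hmeq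
    have hψe : ∀ c, (regAct D F k).ρ (torus D F c) ψ =
        ((χ.comp (flipCoord i)) c : k) • ψ := by
      intro c
      refine Psi_H hF (regAct D F k) e _ hmG (torus_mem_H hF c) ?_
      have e2 : m⁻¹ * torus D F c * m = (N v)⁻¹ * torus D F (flipCoord i c) * N v := by
        rw [← nS_conj_torus hF, hm, hn]; group
      rw [e2, hact _ _ (hwd v hv).1 (torus_mem_H hF _), chH_torus hinj, MonoidHom.comp_apply]
    have hψne : ψ ≠ 0 := by
      intro h0
      have h := Psi_eval (k := k) hF hinj χ₀ w' w' hmH hmeq hmH hmeq (fun _ => rfl)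
        ⟨m⁻¹, inv_mem hmG⟩ rfl
      rw [if_pos rfl] at h
      have h' := congrFun h0 ⟨m⁻¹, inv_mem hmG⟩
      rw [hψ, h] at h'
      exact one_ne_zero h'
    rw [← hT, T_sq hqk _ hψne hψu hψe i]
    congr 1
    have htriv : (∀ t : Fˣ, (χ.comp (flipCoord i)) (Pi.mulSingle i t) = 1) ↔ i ∈ K := by
      simp only [MonoidHom.comp_apply, flipCoord_single hF]
      refine ⟨fun h => ?_, fun h t => hK i h t⁻¹⟩
      by_contra hiK
      exact hi (Finset.mem_filter.2
        ⟨Finset.mem_univ _, fun t => by simpa using h t⁻¹, hiK⟩)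
    exact if_congr htriv rfl rfl
  refine ⟨∑ v ∈ V, Φ v, ?_, fun u hu => ?_, fun c => ?_, fun i => ?_⟩
  · intro h0
    have h1V : (1 : hF.weyl) ∈ V := (hVmem 1).2 (one_mem _)
    obtain ⟨a, ha, hae⟩ := hN 1 h1V
    have h' := congrFun h0 ⟨(N 1)⁻¹, inv_mem (hNG 1 h1V)⟩
    rw [Finset.sum_apply, Finset.sum_eq_single (1 : hF.weyl)] at h'
    · have h2 := Psi_eval (k := k) hF hinj χ₀ (1 * L) (1 * L) ha hae ha hae (fun _ => rfl)
        ⟨(N 1)⁻¹, inv_mem (hNG 1 h1V)⟩ rfl
      rw [if_pos rfl] at h2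
      exact one_ne_zero (h2.symm.trans h')
    · intro v hv hne
      obtain ⟨b, hb, hbe⟩ := hN v hv
      show Psi hF _ e _ _ _ = 0
      rw [Psi_eval hF hinj χ₀ _ _ hb hbe ha hae (fun h => by rw [mul_right_cancel h]) _ rfl,
        if_neg fun h => hne (mul_right_cancel h)]
    · exact fun h => absurd h1V h
  · rw [map_sum]
    exact Finset.sum_congr rfl fun v hv => hΦu v hv u hu
  · rw [map_sum, Finset.smul_sum]
    exact Finset.sum_congr rfl fun v hv => hΦe v hv c
  · rw [map_sum, Finset.smul_sum]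
    by_cases hi : i ∈ Z
    · rw [if_neg (Finset.mem_filter.1 hi).2.2, Finset.sum_congr rfl (fun v _ => zero_smul k (Φ v)),
        Finset.sum_const_zero]
      refine Finset.sum_involution (fun v _ => hF.wS i * v) (fun v hv => hTpair i hi v hv)
        (fun v _ _ h => ?_) (fun v hv => hmul i v hv hi) fun v _ => ?_
      · have h1 : hF.wS i = 1 := mul_eq_right.1 h
        have h2 : hF.refSys.s i • hF.refSys.α i = hF.refSys.α i := by
          rw [show hF.refSys.s i = 1 from h1, one_smul]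
        rw [hF.refSys.s_α] at h2
        exact (hF.refSys.neg_mem _).1 (by rw [h2]; exact hF.refSys.α_mem i) (hF.refSys.α_mem i)
      · rw [← mul_assoc, hF.wS_sq, one_mul]
    · exact Finset.sum_congr rfl fun v hv => hTout i hi v hv

end Cfsg.Agent.Small.Modular
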