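import Cfsg.Agent.Lib.Small.Modular.RegularCount
import Cfsg.Agent.Lib.Small.Modular.WeightExists
import Cfsg.Agent.Lib.Lie.TorusCerts
import Mathlib.FieldTheory.IsAlgClosed.AlgebraicClosure

/-!
A Chevalley group whose torus map is injective has q^l classes of elements of order prime to p.
-/

set_option autoImplicit false
set_option synthInstance.maxHeartbeats 400000

namespace Cfsg.Agent.Small.Modular

open Cfsg.Lie Cfsg.Agent.Lie Cfsg.Agent.Small.StModule Matrix MonoidAlgebra
open scoped MatrixGroups

variable {D : ChevalleyDatum} {F : Type*} [Field F] (hF : Facts D)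
variable {k : Type*} [Field k]

/-- Admissible weights. -/
abbrev Weight (D : ChevalleyDatum) (F : Type*) [Field F] (k : Type*) [Field k] : Type _ :=
  {w : ((Fin D.rank → Fˣ) →* kˣ) × Finset (Fin D.rank) // Adm w.1 w.2}

theorem card_weight [Fintype F] [IsAlgClosed k] (p : ℕ) [Fact p.Prime] [CharP F p] [CharP k p] :
    Nat.card (Weight D F k) = Fintype.card F ^ D.rank := by
  classical
  obtain ⟨n, -, hn⟩ := FiniteField.card F p
  have hexp : Monoid.exponent Fˣ = Fintype.card F - 1 := by
    rw [IsCyclic.exponent_eq_card, Nat.card_units, Nat.card_eq_fintype_card]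
  haveI : NeZero ((Monoid.exponent Fˣ : ℕ) : k) := ⟨by
    rw [hexp, Nat.cast_sub Fintype.card_pos, hn, Nat.cast_pow, CharP.cast_eq_zero,
      zero_pow n.ne_zero, Nat.cast_one, zero_sub]
    exact neg_ne_zero.2 one_ne_zero⟩
  have hc : Nat.card (Fˣ →* kˣ) = Fintype.card F - 1 := by
    rw [CommGroup.card_monoidHom_of_hasEnoughRootsOfUnity, Nat.card_units, Nat.card_eq_fintype_card]
  haveI : Finite (Fˣ →* kˣ) := Nat.finite_of_card_ne_zero (by
    rw [hc]; have := Fintype.one_lt_card (α := F); omega)
  let f : Weight D F k → (Fin D.rank → Option (Fˣ →* kˣ)) := fun w i =>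
    if i ∈ w.1.2 then none
    else some (w.1.1.comp (MonoidHom.mulSingle (fun _ : Fin D.rank => Fˣ) i))
  have hf : Function.Bijective f := by
    constructor
    · rintro ⟨⟨χ, K⟩, hK⟩ ⟨⟨χ', K'⟩, hK'⟩ h
      have hKK : K = K' := Finset.ext fun i => by
        have := congrFun h i
        simp only [f] at this
        split_ifs at this with h1 h2 h2 <;> simp_all
      subst hKK
      have hχ : χ = χ' := by
        refine MonoidHom.functions_ext _ _ _ fun i t => ?_
        by_cases hi : i ∈ K
        · exact (hK i hi t).trans (hK' i hi t).symm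
        · have := congrFun h i
          simp only [f, if_neg hi, Option.some.injEq] at this
          exact DFunLike.congr_fun this t
      subst hχ
      rfl
    · intro o
      let χ : (Fin D.rank → Fˣ) →* kˣ :=
        ∏ i, ((o i).getD 1).comp (Pi.evalMonoidHom (fun _ : Fin D.rank => Fˣ) i)
      have hχ : ∀ i t, χ (Pi.mulSingle i t) = (o i).getD 1 t := fun i t => by
        simp only [χ, MonoidHom.finsetProd_apply, MonoidHom.comp_apply, Pi.evalMonoidHom_apply]
        rw [Finset.prod_eq_single i]
        · rw [Pi.mulSingle_eq_same]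
        · intro j _ hj
          rw [Pi.mulSingle_eq_of_ne hj, map_one]
        · simp
      refine ⟨⟨(χ, Finset.univ.filter fun i => o i = none), fun i hi t => ?_⟩, funext fun i => ?_⟩
      · rw [hχ, (Finset.mem_filter.1 hi).2]; rfl
      · simp only [f]
        cases ho : o i with
        | none => simp [ho]
        | some ψ =>
          rw [if_neg (by simp [ho])]
          refine congrArg some (MonoidHom.ext fun t => ?_)
          show χ (Pi.mulSingle i t) = ψ t
          rw [hχ, ho]; rfl
  haveI : Fintype (Fˣ →* kˣ) := Fintype.ofFinite _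
  rw [Nat.card_congr (Equiv.ofBijective f hf), Nat.card_fun, Nat.card_eq_fintype_card (α := Option _),
    Fintype.card_option, ← Nat.card_eq_fintype_card, hc, Nat.card_fin,
    Nat.sub_add_cancel Fintype.card_pos]

variable {n : ℕ} {d : Fin n → ℕ}
  (π : MonoidAlgebra k ↥(D.group F) →ₐ[k] ((i : Fin n) → Matrix (Fin (d i)) (Fin (d i)) k))

/-- The action on a block. -/
noncomputable def blockAct (i : Fin n) : Act D F k (Fin (d i) → k) := by
  classical
  exact
    { ρ := fun g => if hg : g ∈ D.group F then
        Matrix.mulVecLin (π (of k ↥(D.group F) ⟨g, hg⟩) i) else LinearMap.id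
      one := by
        rw [dif_pos (one_mem _), show (⟨1, one_mem _⟩ : ↥(D.group F)) = 1 from rfl, map_one,
          map_one, Pi.one_apply, Matrix.mulVecLin_one]
      mul := fun a ha b hb v => by
        rw [dif_pos ha, dif_pos hb, dif_pos (mul_mem ha hb),
          show (⟨a * b, mul_mem ha hb⟩ : ↥(D.group F)) = ⟨a, ha⟩ * ⟨b, hb⟩ from rfl, map_mul,
          map_mul, Pi.mul_apply, Matrix.mulVecLin_mul, LinearMap.comp_apply] }

theorem blockAct_apply (i : Fin n) (g : ↥(D.group F)) (v : Fin (d i) → k) :
    (blockAct π i).ρ (g : GL D.Idx F) v = (π (of k ↥(D.group F) g) i).mulVec v := by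
  classical
  show (if hg : (g : GL D.Idx F) ∈ D.group F then
    Matrix.mulVecLin (π (of k ↥(D.group F) ⟨g, hg⟩) i) else LinearMap.id) v = _
  rw [dif_pos g.2]
  rfl

theorem irr_block [Fintype ↥(D.group F)] (hsurj : Function.Surjective π) (i : Fin n) :
    Irr (blockAct π i) := by
  classical
  intro S hS hinv
  obtain ⟨v, hv, hv0⟩ := S.exists_mem_ne_zero_of_ne_bot hS
  obtain ⟨j, hj⟩ := Function.ne_iff.1 hv0
  refine eq_top_iff.2 fun w _ => ?_
  obtain ⟨x, hx⟩ := hsurj (Pi.single i (Matrix.vecMulVec w (Pi.single j (v j)⁻¹)))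
  have h : (π x i).mulVec v ∈ S := by
    rw [expand x, map_sum, Finset.sum_apply, Matrix.sum_mulVec]
    refine S.sum_mem fun g _ => ?_
    rw [map_smul, Pi.smul_apply, Matrix.smul_mulVec, ← blockAct_apply]
    exact S.smul_mem _ (hinv _ g.2 v hv)
  rw [hx, Pi.single_eq_same, Matrix.vecMulVec_mulVec] at h
  simpa [inv_mul_cancel₀ hj] using h

variable [Fintype F] [Fintype Fˣ]

include hF in
/-- The number of blocks is the number of weights. -/
theorem card_blocks [IsAlgClosed k] (p : ℕ) [Fact p.Prime] [CharP F p] [CharP k p]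
    (hinj : Function.Injective (torus D F)) (hd : ∀ i, 0 < d i) (hsurj : Function.Surjective π)
    (hnil : ∀ x, π x = 0 → IsNilpotent x) : n = Nat.card (Weight D F k) := by
  classical
  haveI := Fintype.ofFinite ↥(D.group F)
  have hqk : ((Fintype.card F : ℕ) : k) = 0 := by
    obtain ⟨m, -, hm⟩ := FiniteField.card F p
    rw [hm, Nat.cast_pow, CharP.cast_eq_zero, zero_pow m.ne_zero]
  have hne : ∀ i, ∃ v : Fin (d i) → k, v ≠ 0 := fun i =>
    ⟨fun _ => 1, fun h => one_ne_zero (congrFun h ⟨0, hd i⟩)⟩
  choose χ K z hAdm hz using fun i =>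
    exists_wt (hF := hF) (A := blockAct π i) p (hne i)
  let Φ : Fin n → Weight D F k := fun i => ⟨(χ i, K i), hAdm i⟩
  have hΦ : Function.Bijective Φ := by
    constructor
    · intro i j h
      by_contra hij
      have h1 : χ i = χ j := congrArg (fun w : Weight D F k => w.1.1) h
      have h2 : K i = K j := congrArg (fun w : Weight D F k => w.1.2) h
      have hzj := hz j
      rw [← h1, ← h2] at hzj
      obtain ⟨f, hf, hfg⟩ := exists_intertwiner hF p (irr_block π hsurj i) (irr_block π hsurj j)
        (hz i) hzj
      have hlin : ∀ x v, f ((π x j).mulVec v) = (π x i).mulVec (f v) := by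
        intro x v
        rw [expand x]
        simp only [map_sum, map_smul, Finset.sum_apply, Pi.smul_apply, Matrix.sum_mulVec,
          Matrix.smul_mulVec]
        exact Finset.sum_congr rfl fun g _ => by
          rw [← blockAct_apply, ← blockAct_apply, hfg _ g.2]
      obtain ⟨x, hx⟩ := hsurj (Pi.single i 1)
      have h3 := hlin x (z j)
      rw [hx, Pi.single_eq_same, Pi.single_eq_of_ne (Ne.symm hij), Matrix.zero_mulVec,
        Matrix.one_mulVec, map_zero, hf] at h3
      exact (hz i).ne h3.symm
    · rintro ⟨⟨χ₁, K₁⟩, hK₁⟩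
      obtain ⟨f, hf⟩ := exists_regular_wt hF hinj hqk χ₁ K₁ hK₁
      let R : ↥(D.group F) →* Module.End k (↥(D.group F) → k) :=
        { toFun := fun g => (regAct D F k).ρ (g : GL D.Idx F)
          map_one' := by rw [Subgroup.coe_one, (regAct D F k).one]; rfl
          map_mul' := fun a b => LinearMap.ext fun v => (regAct D F k).mul _ a.2 _ b.2 v }
      let Λ := MonoidAlgebra.lift k (Module.End k (↥(D.group F) → k)) ↥(D.group F) R
      let L : Ideal (MonoidAlgebra k ↥(D.group F)) :=
        { carrier := {a | Λ a f = 0}
          add_mem' := fun {a b} ha hb => by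
            show Λ (a + b) f = 0
            rw [map_add, LinearMap.add_apply, show Λ a f = 0 from ha, show Λ b f = 0 from hb,
              add_zero]
          zero_mem' := by show Λ 0 f = 0; rw [map_zero]; rfl
          smul_mem' := fun c a ha => by
            show Λ (c * a) f = 0
            rw [map_mul, Module.End.mul_apply, show Λ a f = 0 from ha, map_zero] }
      have hL : L ≠ ⊤ := fun h => hf.ne (by
        have h1 : (1 : MonoidAlgebra k ↥(D.group F)) ∈ L := by rw [h]; trivial
        have h2 : Λ 1 f = 0 := h1
        rwa [map_one, Module.End.one_apply] at h2)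
      obtain ⟨i, v, hv0, hv⟩ := exists_kernel_vector π hsurj hnil L hL
      have hof : ∀ g : ↥(D.group F), Λ (of k _ g) f = (regAct D F k).ρ (g : GL D.Idx F) f :=
        fun g => by rw [MonoidAlgebra.lift_of]; rfl
      have key : ∀ (g : ↥(D.group F)) (c : k), (regAct D F k).ρ (g : GL D.Idx F) f = c • f →
          (blockAct π i).ρ (g : GL D.Idx F) v = c • v := by
        intro g c h
        have hmem : of k _ g - c • (1 : MonoidAlgebra k ↥(D.group F)) ∈ L := by
          show Λ _ f = 0
          rw [map_sub, map_smul, map_one, LinearMap.sub_apply, hof, LinearMap.smul_apply,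
            Module.End.one_apply, h, sub_self]
        have := hv _ hmem
        rwa [map_sub, map_smul, map_one, Pi.sub_apply, Pi.smul_apply, Pi.one_apply,
          Matrix.sub_mulVec, Matrix.smul_mulVec, Matrix.one_mulVec, ← blockAct_apply,
          sub_eq_zero] at this
      have hwt : IsWt hF (blockAct π i) χ₁ K₁ v := by
        refine ⟨hv0, fun u hu => ?_, fun c => key ⟨_, torus_mem_group hF c⟩ _ (hf.eig c),
          fun j => ?_⟩
        · simpa using key ⟨u, U_mem hF hu⟩ 1 (by simpa using hf.ufix u hu)
        · let g : F → ↥(D.group F) := fun t =>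
            ⟨hF.xg (D.simple j.val) t * (hF.tsys F).nS j,
              mul_mem (hF.xg_mem_group _ _) (nS_mem hF j)⟩
          set μ : k := if j ∈ K₁ then (-1 : k) else 0 with hμ
          have hmem : ∑ t : F, of k _ (g t) - μ • (1 : MonoidAlgebra k ↥(D.group F)) ∈ L := by
            show Λ _ f = 0
            rw [map_sub, map_smul, map_one, LinearMap.sub_apply, map_sum, LinearMap.sum_apply,
              LinearMap.smul_apply, Module.End.one_apply, hμ, ← hf.teig j, T_apply,
              Finset.sum_congr rfl fun t _ => hof (g t), sub_self]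
          have := hv _ hmem
          rw [map_sub, map_smul, map_one, map_sum, Pi.sub_apply, Finset.sum_apply, Pi.smul_apply,
            Pi.one_apply, Matrix.sub_mulVec, Matrix.sum_mulVec, Matrix.smul_mulVec,
            Matrix.one_mulVec, sub_eq_zero] at this
          rw [T_apply, ← this]
          exact Finset.sum_congr rfl fun t _ => blockAct_apply π i (g t) v
      obtain ⟨e1, e2⟩ := wt_unique hF p (irr_block π hsurj i) (hz i) hwt
      exact ⟨i, Subtype.ext (Prod.ext e1 e2)⟩
  rw [← Nat.card_congr (Equiv.ofBijective Φ hΦ), Nat.card_fin]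

omit [Fintype Fˣ] in
include hF in
/-- A Chevalley group with injective torus map has q^l classes of elements of order prime to p. -/
theorem card_semisimple_classes (p : ℕ) [Fact p.Prime] [CharP F p]
    (hinj : Function.Injective (torus D F)) :
    Nat.card {c : ConjClasses ↥(D.group F) //
      ∃ g : ↥(D.group F), ConjClasses.mk g = c ∧ (orderOf g).Coprime p} =
        Fintype.card F ^ D.rank := by
  classical
  haveI : CharP (AlgebraicClosure (ZMod p)) p :=
    charP_of_injective_algebraMap (algebraMap (ZMod p) (AlgebraicClosure (ZMod p))).injective p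
  haveI := Fintype.ofFinite ↥(D.group F)
  haveI := Fintype.ofFinite Fˣ
  obtain ⟨n, d, π, hd, hsurj, hnil⟩ :=
    exists_blocks (k := AlgebraicClosure (ZMod p)) (G := ↥(D.group F))
  rw [card_regular_classes π p hd hsurj hnil, card_blocks hF π p hinj hd hsurj hnil,
    card_weight p]

omit [Fintype Fˣ] in
include hF in
/-- The torus map is injective when the certified kernel is trivial. -/
theorem torus_injective_of_gcd {l : ℕ} {e : Fin l → ℕ} (K : KerCert (cartanSys D) e)
    (h : ∀ a, Nat.gcd (e a) (Fintype.card F - 1) = 1) : Function.Injective (torus D F) := by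
  classical
  have h1 := hF.card_diagonal (F := F) K
  rw [Nat.card_eq_fintype_card (α := F), Finset.prod_eq_one (fun a _ => h a), one_mul,
    hF.diagonalSubgroup_eq] at h1
  have hbij : Function.Bijective (torus D F).rangeRestrict := by
    refine (Nat.bijective_iff_surjective_and_card _).2 ⟨(torus D F).rangeRestrict_surjective, ?_⟩
    rw [h1, Nat.card_fun, Nat.card_units, Nat.card_eq_fintype_card (α := F), Nat.card_fin]
  intro a b hab
  exact hbij.1 (Subtype.ext hab)

end Cfsg.Agent.Small.Modular
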