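import Cfsg.Agent.Lib.Small.SteinbergModule
import Cfsg.Agent.Lib.Char.SummandFree
import Mathlib.LinearAlgebra.Dual.Lemmas
import Mathlib.RingTheory.IntegralDomain
import Mathlib.LinearAlgebra.Eigenspace.Triangularizable

/-!
Weights of irreducible modules of a Chevalley group in the defining characteristic
(Curtis, Richen): existence in every irreducible module and the uniqueness statements.
-/

set_option autoImplicit false

namespace Cfsg.Agent.Small.Modular

open Cfsg.Lie Cfsg.Agent.Lie Cfsg.Agent.Small.StModule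
open scoped MatrixGroups

variable {D : ChevalleyDatum} {F : Type*} [Field F] (hF : Facts D)
variable {k : Type*} [Field k] {W : Type*} [AddCommGroup W] [Module k W]
variable (A : Act D F k W)

/-- χ is trivial on the coordinates in K. -/
def Adm (χ : (Fin D.rank → Fˣ) →* kˣ) (K : Finset (Fin D.rank)) : Prop :=
  ∀ i ∈ K, ∀ t : Fˣ, χ (Pi.mulSingle i t) = 1

/-- The module has no proper invariant submodules. -/
def Irr : Prop :=
  ∀ S : Submodule k W, S ≠ ⊥ → (∀ g ∈ D.group F, ∀ x ∈ S, A.ρ g x ∈ S) → S = ⊤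

include hF in
theorem torus_mem_H (c : Fin D.rank → Fˣ) : torus D F c ∈ (hF.tsys F).H := by
  rw [hF.tsys_H, hF.diagonalSubgroup_eq]; exact ⟨c, rfl⟩

include hF in
theorem torus_mem_group (c : Fin D.rank → Fˣ) : torus D F c ∈ D.group F :=
  H_mem hF (torus_mem_H hF c)

include hF in
theorem act_cancel {g : GL D.Idx F} (hg : g ∈ D.group F) (v : W) : A.ρ g⁻¹ (A.ρ g v) = v := by
  rw [← A.mul _ (inv_mem hg) _ hg, inv_mul_cancel, A.one, LinearMap.id_apply]

variable [Fintype F] [Fintype Fˣ]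

/-- v is a highest vector of weight (χ, K). -/
structure IsWt (χ : (Fin D.rank → Fˣ) →* kˣ) (K : Finset (Fin D.rank)) (v : W) : Prop where
  ne : v ≠ 0
  ufix : UFix hF A v
  eig : ∀ c, A.ρ (torus D F c) v = (χ c : k) • v
  teig : ∀ i, T hF A i v = (if i ∈ K then (-1 : k) else 0) • v

variable {hF A}

theorem IsWt.eig' {χ : (Fin D.rank → Fˣ) →* kˣ} {K : Finset (Fin D.rank)} {v : W}
    (h : IsWt hF A χ K v) : Eig hF A v := by
  refine ⟨h.ufix, fun a ha => ?_⟩
  rw [hF.tsys_H, hF.diagonalSubgroup_eq] at ha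
  obtain ⟨c, rfl⟩ := ha
  exact ⟨_, h.eig c⟩

theorem IsWt.teig' {χ : (Fin D.rank → Fˣ) →* kˣ} {K : Finset (Fin D.rank)} {v : W}
    (h : IsWt hF A χ K v) : ∀ i, ∃ c : k, T hF A i v = c • v := fun i => ⟨_, h.teig i⟩

/-- The square of T on an eigenvector. -/
theorem T_sq (hqk : ((Fintype.card F : ℕ) : k) = 0) (χ : (Fin D.rank → Fˣ) →* kˣ) {v : W}
    (hv0 : v ≠ 0) (hu : UFix hF A v) (he : ∀ c, A.ρ (torus D F c) v = (χ c : k) • v)
    (i : Fin D.rank) [Decidable (∀ t : Fˣ, χ (Pi.mulSingle i t) = 1)] :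
    T hF A i (T hF A i v) =
      (if ∀ t : Fˣ, χ (Pi.mulSingle i t) = 1 then (-1 : k) else 0) • T hF A i v := by
  classical
  have hE : Eig hF A v := by
    refine ⟨hu, fun a ha => ?_⟩
    rw [hF.tsys_H, hF.diagonalSubgroup_eq] at ha
    obtain ⟨c, rfl⟩ := ha
    exact ⟨_, he c⟩
  obtain ⟨c, μ, hc, hμ, hT⟩ := T_T' hF A hqk i hE
  have hμ' : ∀ t : Fˣ, μ t = ((χ (Pi.mulSingle i t))⁻¹ : kˣ) := by
    intro t
    refine smul_left_injective k hv0 ?_
    show μ t • v = _ • v
    rw [← hμ t, ← hF.torus_single, ← map_inv, he, map_inv]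
  have hc' : c = ((χ (Pi.mulSingle i (-1)))⁻¹ : kˣ) := by
    refine smul_left_injective k hv0 ?_
    show c • v = _ • v
    rw [← hc, (hF.tsys F).nS_sq, hF.tsys_h, show (-1 : F) = ((-1 : Fˣ) : F) by simp, hμ, hμ']
  rw [hT, hc']
  simp only [hμ']
  congr 1
  split_ifs with h
  · simp only [h, inv_one, Units.val_one, Finset.sum_const, Finset.card_univ, one_mul, nsmul_one]
    rw [← Nat.card_eq_fintype_card, Nat.card_units, Nat.card_eq_fintype_card,
      Nat.cast_sub (Fintype.card_pos), hqk, Nat.cast_one, zero_sub]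
  · let ψ : Fˣ →* k :=
      (Units.coeHom k).comp ((χ.comp (MonoidHom.mulSingle (fun _ : Fin D.rank => Fˣ) i))⁻¹)
    have hψ : ∀ t, ψ t = (((χ (Pi.mulSingle i t))⁻¹ : kˣ) : k) := fun t => rfl
    have hne : ψ ≠ 1 := fun h1 => h fun t => by
      have h2 := DFunLike.congr_fun h1 t
      rw [hψ, MonoidHom.one_apply, Units.val_eq_one, inv_eq_one] at h2
      exact h2
    have := sum_hom_units_eq_zero ψ hne
    simp only [hψ] at this
    rw [this, mul_zero]

theorem exists_fixed_U (p : ℕ) [Fact p.Prime] [CharP F p] [CharP k p] [FiniteDimensional k W]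
    (hne : ∃ v : W, v ≠ 0) : ∃ v : W, v ≠ 0 ∧ UFix hF A v := by
  classical
  haveI : Finite ↥((hF.tsys F).U) := inferInstance
  haveI := Fintype.ofFinite ↥((hF.tsys F).U)
  obtain ⟨n, -, hn⟩ := FiniteField.card F p
  have hP : IsPGroup p ↥((hF.tsys F).U) := by
    refine IsPGroup.of_card (n := (n : ℕ) * (Facts.posL D).length) ?_
    rw [show (hF.tsys F).U = (hF.tsys F).US (Facts.posL D) from rfl, hF.card_US hF.closedList_posL,
      Nat.card_eq_fintype_card, hn, ← pow_mul]
  let ρ : ↥((hF.tsys F).U) →* Module.End k W :=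
    { toFun := fun u => A.ρ (u : GL D.Idx F)
      map_one' := A.one
      map_mul' := fun a b => LinearMap.ext fun v => by
        rw [Subgroup.coe_mul, A.mul _ (U_mem hF a.2) _ (U_mem hF b.2)]
        rfl }
  obtain ⟨w, hw⟩ := hne
  obtain ⟨v, -, hv0, hv⟩ := Char.SummandFree.exists_fixed_ne_zero (p := p) hP ρ ⊤
    (fun _ _ _ => trivial) (fun h => hw ((Submodule.eq_bot_iff _).1 h w trivial))
  exact ⟨v, hv0, fun u hu => hv ⟨u, hu⟩⟩

theorem exists_H_eigen [IsAlgClosed k] [FiniteDimensional k W] {v : W} (hv0 : v ≠ 0)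
    (hv : UFix hF A v) : ∃ (w : W) (χ : (Fin D.rank → Fˣ) →* kˣ),
      w ≠ 0 ∧ UFix hF A w ∧ ∀ c, A.ρ (torus D F c) w = (χ c : k) • w := by
  classical
  let P : Submodule k W → Prop := fun S =>
    S ≠ ⊥ ∧ (∀ x ∈ S, UFix hF A x) ∧ ∀ c, ∀ x ∈ S, A.ρ (torus D F c) x ∈ S
  let Ufx : Submodule k W :=
    { carrier := {x | UFix hF A x}
      add_mem' := fun ha hb u hu => by rw [map_add, ha u hu, hb u hu]
      zero_mem' := fun u _ => map_zero _
      smul_mem' := fun c x hx u hu => by rw [map_smul, hx u hu] }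
  have hinv : ∀ c, ∀ x ∈ Ufx, A.ρ (torus D F c) x ∈ Ufx := by
    intro c x hx u hu
    have hu' : (torus D F c)⁻¹ * u * torus D F c ∈ (hF.tsys F).U := by
      have := (hF.tsys F).H_conj_US (inv_mem (torus_mem_H hF c)) TorusSys.posL_lt hu
      rwa [inv_inv] at this
    rw [← A.mul _ (U_mem hF hu) _ (torus_mem_group hF c),
      show u * torus D F c = torus D F c * ((torus D F c)⁻¹ * u * torus D F c) by group,
      A.mul _ (torus_mem_group hF c) _ (U_mem hF hu'), hx _ hu']
  have hP : ∃ m : ℕ, ∃ S, P S ∧ Module.finrank k S = m :=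
    ⟨_, Ufx, ⟨(Submodule.ne_bot_iff _).2 ⟨v, hv, hv0⟩, fun x hx => hx, hinv⟩, rfl⟩
  obtain ⟨S, ⟨hSne, hSfix, hSinv⟩, hSm⟩ := Nat.find_spec hP
  have hscal : ∀ c, ∃ l : k, ∀ x ∈ S, A.ρ (torus D F c) x = l • x := by
    intro c
    haveI : Nontrivial S := (Submodule.nontrivial_iff_ne_bot).2 hSne
    obtain ⟨l, hl⟩ := Module.End.exists_eigenvalue ((A.ρ (torus D F c)).restrict (hSinv c))
    obtain ⟨⟨x, hxS⟩, hx, hx0⟩ := Submodule.exists_mem_ne_zero_of_ne_bot hl
    refine ⟨l, ?_⟩
    let E : Submodule k W := S ⊓ LinearMap.ker (A.ρ (torus D F c) - l • LinearMap.id)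
    have hE : ∀ y, y ∈ E ↔ y ∈ S ∧ A.ρ (torus D F c) y = l • y := fun y => by
      simp [E, sub_eq_zero]
    have hxE : x ∈ E :=
      (hE x).2 ⟨hxS, congrArg Subtype.val (Module.End.mem_eigenspace_iff.1 hx)⟩
    have hEP : P E := by
      refine ⟨(Submodule.ne_bot_iff _).2 ⟨x, hxE, fun h => hx0 (Subtype.ext h)⟩,
        fun y hy => hSfix y hy.1, fun d y hy => (hE _).2 ⟨hSinv d y hy.1, ?_⟩⟩
      rw [← A.mul _ (torus_mem_group hF c) _ (torus_mem_group hF d), ← map_mul, mul_comm, map_mul,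
        A.mul _ (torus_mem_group hF d) _ (torus_mem_group hF c), ((hE y).1 hy).2, map_smul]
    have hle : E ≤ S := inf_le_left
    have hEeq : E = S := Submodule.eq_of_le_of_finrank_le hle
      (hSm ▸ Nat.find_min' hP ⟨E, hEP, rfl⟩)
    exact fun y hy => ((hE y).1 (hEeq.symm ▸ hy)).2
  choose l hl using hscal
  obtain ⟨w, hw, hw0⟩ := Submodule.exists_mem_ne_zero_of_ne_bot hSne
  have hl1 : l 1 = 1 := smul_left_injective k hw0 (by
    show l 1 • w = (1 : k) • w
    rw [← hl 1 w hw, map_one, A.one, LinearMap.id_apply, one_smul])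
  have hlm : ∀ a b, l (a * b) = l a * l b := fun a b => smul_left_injective k hw0 (by
    show l (a * b) • w = (l a * l b) • w
    rw [← hl _ w hw, map_mul, A.mul _ (torus_mem_group hF a) _ (torus_mem_group hF b), hl b w hw,
      map_smul, hl a w hw, smul_smul, mul_comm])
  exact ⟨w, (MonoidHom.mk ⟨l, hl1⟩ hlm).toHomUnits, hw0, hSfix w hw, fun c => hl c w hw⟩

/-- Every nonzero module has a highest vector. -/
theorem exists_wt [IsAlgClosed k] (p : ℕ) [Fact p.Prime] [CharP F p] [CharP k p]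
    [FiniteDimensional k W] (hne : ∃ v : W, v ≠ 0) :
    ∃ (χ : (Fin D.rank → Fˣ) →* kˣ) (K : Finset (Fin D.rank)) (v : W),
      Adm χ K ∧ IsWt hF A χ K v := by
  classical
  have hqk : ((Fintype.card F : ℕ) : k) = 0 := by
    obtain ⟨n, -, hn⟩ := FiniteField.card F p
    rw [hn, Nat.cast_pow, CharP.cast_eq_zero, zero_pow n.ne_zero]
  obtain ⟨v, hv0, hv⟩ := exists_fixed_U (hF := hF) (A := A) p hne
  obtain ⟨w, χ₀, hw0, hwu, hwe⟩ := exists_H_eigen hv0 hv
  have hwE : Eig hF A w := by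
    refine ⟨hwu, fun a ha => ?_⟩
    rw [hF.tsys_H, hF.diagonalSubgroup_eq] at ha
    obtain ⟨c, rfl⟩ := ha
    exact ⟨_, hwe c⟩
  obtain ⟨z, hz0, hz, hT⟩ := exists_Teig hF A hqk hwE hw0
  choose l hl using fun c => hz.2 _ (torus_mem_H hF c)
  choose μ hμ using hT
  have hl1 : l 1 = 1 := smul_left_injective k hz0 (by
    show l 1 • z = (1 : k) • z
    rw [← hl 1, map_one, A.one, LinearMap.id_apply, one_smul])
  have hlm : ∀ a b, l (a * b) = l a * l b := fun a b => smul_left_injective k hz0 (by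
    show l (a * b) • z = (l a * l b) • z
    rw [← hl, map_mul, A.mul _ (torus_mem_group hF a) _ (torus_mem_group hF b), hl b,
      map_smul, hl a, smul_smul, mul_comm])
  let χ : (Fin D.rank → Fˣ) →* kˣ := (MonoidHom.mk ⟨l, hl1⟩ hlm).toHomUnits
  have hχ : ∀ c, A.ρ (torus D F c) z = (χ c : k) • z := hl
  have hμsq : ∀ i, μ i * μ i = (if ∀ t : Fˣ, χ (Pi.mulSingle i t) = 1 then (-1 : k) else 0) * μ i := by
    intro i
    have h := T_sq hqk χ hz0 hz.1 hχ i
    rw [hμ i, map_smul, hμ i, smul_smul, smul_smul] at h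
    exact smul_left_injective k hz0 h
  refine ⟨χ, Finset.univ.filter fun i => μ i ≠ 0, z, fun i hi t => ?_, hz0, hz.1, hχ, fun i => ?_⟩
  · by_contra h
    have h' := hμsq i
    rw [if_neg fun hall => h (hall t), zero_mul, mul_self_eq_zero] at h'
    exact (Finset.mem_filter.1 hi).2 h'
  · rw [hμ i]
    congr 1
    by_cases h : μ i = 0
    · rw [if_neg (by simp [h]), h]
    · rw [if_pos (by simp [h])]
      have h' := mul_right_cancel₀ h (hμsq i)
      split_ifs at h' with hall
      · exact h'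
      · exact absurd h' h

/-- A highest vector generating W spans it through U and the longest element. -/
theorem span_low {χ : (Fin D.rank → Fˣ) →* kˣ} {K : Finset (Fin D.rank)} {z : W}
    (hz : IsWt hF A χ K z)
    (hgen : Submodule.span k (Set.range fun g : ↥(D.group F) => A.ρ (g : GL D.Idx F) z) = ⊤) :
    ∃ y : W, Submodule.span k
      (Set.range fun u : ↥((hF.tsys F).U) => A.ρ (u : GL D.Idx F) y) = ⊤ := by
  obtain ⟨L, -, -, hL⟩ := StChar.exists_longest' hF
  refine ⟨A.ρ ((hF.tsys F).nW L) z, eq_top_iff.2 ?_⟩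
  rw [← hgen, Submodule.span_le]
  rintro _ ⟨g, rfl⟩
  have h := all_mem_low hF A hz.eig' hz.teig' hL g.2
  have e : Set.range (low hF A z L) =
      Set.range fun u : ↥((hF.tsys F).U) => A.ρ (u : GL D.Idx F) (A.ρ ((hF.tsys F).nW L) z) := by
    congr 1
    funext u
    exact A.mul _ (U_mem hF u.2) _ (StChar.nW_mem_group hF L) z
  rwa [e] at h

/-- An invariant functional on a space spanned by translates of y is determined at y. -/
theorem ufun_eq_zero {y : W}
    (hy : Submodule.span k (Set.range fun u : ↥((hF.tsys F).U) => A.ρ (u : GL D.Idx F) y) = ⊤)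
    {φ : W →ₗ[k] k} (hφ : ∀ u ∈ (hF.tsys F).U, ∀ x, φ (A.ρ u x) = φ x) (h0 : φ y = 0) : φ = 0 := by
  refine LinearMap.ext_on hy ?_
  rintro _ ⟨u, rfl⟩
  rw [LinearMap.zero_apply, hφ _ u.2, h0]

/-- The contragredient action. -/
noncomputable def dualAct (A : Act D F k W) : Act D F k (Module.Dual k W) where
  ρ g := (A.ρ g⁻¹).dualMap
  one := by rw [inv_one, A.one, LinearMap.dualMap_id]
  mul := fun a ha b hb φ => by
    ext v
    simp only [LinearMap.dualMap_apply, _root_.mul_inv_rev, A.mul _ (inv_mem hb) _ (inv_mem ha)]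

omit [Fintype F] [Fintype Fˣ] in
theorem irr_dual [FiniteDimensional k W] (hirr : Irr A) : Irr (dualAct A) := by
  intro S hS hinv
  by_contra hne
  have h1 : S.dualCoannihilator ≠ ⊥ := fun h => hne (by
    rw [← Subspace.dualCoannihilator_dualAnnihilator_eq (W := S), h, Submodule.dualAnnihilator_bot])
  have h2 := hirr _ h1 fun g hg x hx => by
    rw [Submodule.mem_dualCoannihilator] at hx ⊢
    intro φ hφ
    have := hinv g⁻¹ (inv_mem hg) φ hφ
    have h3 := hx _ this
    simpa [dualAct] using h3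
  refine hS ?_
  rw [← Subspace.dualCoannihilator_dualAnnihilator_eq (W := S), h2, Submodule.dualAnnihilator_top]

omit [Fintype F] [Fintype Fˣ] in
theorem gen_of_irr (hirr : Irr A) {z : W} (hz : z ≠ 0) :
    Submodule.span k (Set.range fun g : ↥(D.group F) => A.ρ (g : GL D.Idx F) z) = ⊤ := by
  refine hirr _ (fun h => hz ?_) fun g hg x hx => ?_
  · have h1 : A.ρ ((1 : ↥(D.group F)) : GL D.Idx F) z ∈
        Submodule.span k (Set.range fun g : ↥(D.group F) => A.ρ (g : GL D.Idx F) z) :=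
      Submodule.subset_span ⟨1, rfl⟩
    rw [h, Submodule.mem_bot, Subgroup.coe_one, A.one] at h1
    exact h1
  · induction hx using Submodule.span_induction with
    | mem x hx =>
      obtain ⟨h, rfl⟩ := hx
      exact Submodule.subset_span ⟨⟨g, hg⟩ * h, by
        show A.ρ (g * (h : GL D.Idx F)) z = _
        rw [A.mul _ hg _ h.2]⟩
    | zero => simp
    | add a b _ _ ha hb => rw [map_add]; exact add_mem ha hb
    | smul c a _ ha => rw [map_smul]; exact Submodule.smul_mem _ c ha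

variable (hF) in
/-- The U-fixed vectors of an irreducible module form a line. -/
theorem ufix_line [IsAlgClosed k] (p : ℕ) [Fact p.Prime] [CharP F p] [CharP k p]
    [FiniteDimensional k W] (hirr : Irr A) {v w : W} (hv : UFix hF A v) (hv0 : v ≠ 0)
    (hw : UFix hF A w) : ∃ a : k, w = a • v := by
  have hne : ∃ φ : Module.Dual k W, φ ≠ 0 := by
    by_contra h
    push Not at h
    exact hv0 (Module.forall_dual_apply_eq_zero_iff k v |>.1 fun φ => by rw [h φ]; rfl)
  obtain ⟨χ, K, ζ, -, hζ⟩ := exists_wt (hF := hF) (A := dualAct A) p hne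
  obtain ⟨y, hy⟩ := span_low hζ (gen_of_irr (irr_dual hirr) hζ.ne)
  have key : ∀ x, UFix hF A x → y x = 0 → x = 0 := by
    intro x hx hyx
    refine (Module.forall_dual_apply_eq_zero_iff k x).1 fun φ => ?_
    have := ufun_eq_zero hy (φ := Module.Dual.eval k W x) (fun u hu ψ => by
      show ψ (A.ρ u⁻¹ x) = ψ x
      rw [hx _ (inv_mem hu)]) hyx
    exact DFunLike.congr_fun this φ
  have hyv : y v ≠ 0 := fun h => hv0 (key v hv h)
  refine ⟨y w / y v, sub_eq_zero.1 (key _ (fun u hu => ?_) ?_)⟩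
  · rw [map_sub, map_smul, hw u hu, hv u hu]
  · rw [map_sub, map_smul, smul_eq_mul, div_mul_cancel₀ _ hyv, sub_self]

variable (hF) in
/-- An irreducible module has one weight. -/
theorem wt_unique [IsAlgClosed k] (p : ℕ) [Fact p.Prime] [CharP F p] [CharP k p]
    [FiniteDimensional k W] (hirr : Irr A) {χ χ' : (Fin D.rank → Fˣ) →* kˣ}
    {K K' : Finset (Fin D.rank)} {v v' : W} (h : IsWt hF A χ K v) (h' : IsWt hF A χ' K' v') :
    χ = χ' ∧ K = K' := by
  classical
  obtain ⟨a, rfl⟩ := ufix_line hF p hirr h.ufix h.ne h'.ufix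
  refine ⟨MonoidHom.ext fun c => Units.ext (smul_left_injective k h'.ne ?_), Finset.ext fun i => ?_⟩
  · show (χ c : k) • a • v = (χ' c : k) • a • v
    rw [← h'.eig c, map_smul, h.eig c, smul_comm]
  · have e := h'.teig i
    rw [map_smul, h.teig i, smul_comm] at e
    have := smul_left_injective k h'.ne e
    split_ifs at this with h1 h2 h2 <;> simp_all

variable (hF) in
/-- Irreducible modules with the same weight have an intertwining map between their vectors. -/
theorem exists_intertwiner [IsAlgClosed k] (p : ℕ) [Fact p.Prime] [CharP F p] [CharP k p]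
    {W' : Type*} [AddCommGroup W'] [Module k W'] {A' : Act D F k W'}
    [FiniteDimensional k W] [FiniteDimensional k W'] (hirr : Irr A) (hirr' : Irr A')
    {χ : (Fin D.rank → Fˣ) →* kˣ} {K : Finset (Fin D.rank)} {z : W} {z' : W'}
    (h : IsWt hF A χ K z) (h' : IsWt hF A' χ K z') :
    ∃ f : W' →ₗ[k] W, f z' = z ∧ ∀ g ∈ D.group F, ∀ x, f (A'.ρ g x) = A.ρ g (f x) := by
  let P : Act D F k (W × W') :=
    { ρ := fun g => (A.ρ g).prodMap (A'.ρ g)
      one := by rw [A.one, A'.one]; exact LinearMap.prodMap_id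
      mul := fun a ha b hb x => by
        simp only [LinearMap.prodMap_apply, A.mul a ha b hb, A'.mul a ha b hb] }
  let X : Submodule k (W × W') :=
    Submodule.span k (Set.range fun g : ↥(D.group F) => P.ρ (g : GL D.Idx F) (z, z'))
  have hXinv : ∀ g ∈ D.group F, ∀ x ∈ X, P.ρ g x ∈ X := by
    intro g hg x hx
    induction hx using Submodule.span_induction with
    | mem x hx =>
      obtain ⟨h, rfl⟩ := hx
      exact Submodule.subset_span ⟨⟨g, hg⟩ * h, by
        show P.ρ (g * (h : GL D.Idx F)) (z, z') = _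
        rw [P.mul _ hg _ h.2]⟩
    | zero => simp
    | add a b _ _ ha hb => rw [map_add]; exact add_mem ha hb
    | smul c a _ ha => rw [map_smul]; exact Submodule.smul_mem _ c ha
  have hzz : (z, z') ∈ X := Submodule.subset_span ⟨1, by simp [P.one]⟩
  have hwt : IsWt hF P χ K (z, z') := by
    refine ⟨fun e => h.ne (congrArg Prod.fst e), fun u hu => Prod.ext (h.ufix u hu) (h'.ufix u hu),
      fun c => Prod.ext (h.eig c) (h'.eig c), fun i => Prod.ext ?_ ?_⟩
    · rw [T_apply, Prod.fst_sum]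
      exact (T_apply hF A i z).symm.trans (h.teig i)
    · rw [T_apply, Prod.snd_sum]
      exact (T_apply hF A' i z').symm.trans (h'.teig i)
  have hXne : X ≠ ⊤ := by
    intro hX
    obtain ⟨y, hy⟩ := span_low hwt hX
    have hne : ∃ φ : Module.Dual k W, φ ≠ 0 := by
      by_contra hcon
      push Not at hcon
      exact h.ne ((Module.forall_dual_apply_eq_zero_iff k z).1 fun φ => by rw [hcon φ]; rfl)
    have hne' : ∃ φ : Module.Dual k W', φ ≠ 0 := by
      by_contra hcon
      push Not at hcon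
      exact h'.ne ((Module.forall_dual_apply_eq_zero_iff k z').1 fun φ => by rw [hcon φ]; rfl)
    obtain ⟨φ, hφ0, hφ⟩ := exists_fixed_U (hF := hF) (A := dualAct A) p hne
    obtain ⟨ψ, hψ0, hψ⟩ := exists_fixed_U (hF := hF) (A := dualAct A') p hne'
    have hφ' : ∀ u ∈ (hF.tsys F).U, ∀ x, φ (A.ρ u x) = φ x := fun u hu x => by
      have e := DFunLike.congr_fun (hφ u⁻¹ (inv_mem hu)) x
      simpa [dualAct] using e
    have hψ' : ∀ u ∈ (hF.tsys F).U, ∀ x, ψ (A'.ρ u x) = ψ x := fun u hu x => by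
      have e := DFunLike.congr_fun (hψ u⁻¹ (inv_mem hu)) x
      simpa [dualAct] using e
    let Φ : W × W' →ₗ[k] k :=
      ψ y.2 • φ.comp (LinearMap.fst k W W') - φ y.1 • ψ.comp (LinearMap.snd k W W')
    have hΦ : Φ = 0 := ufun_eq_zero hy (fun u hu x => by simp [Φ, P, hφ' u hu, hψ' u hu])
      (by simp [Φ, mul_comm])
    have h0 : ψ y.2 = 0 := by
      by_contra hne0
      refine hφ0 (LinearMap.ext fun x => ?_)
      have e := DFunLike.congr_fun hΦ (x, (0 : W'))
      simpa [Φ, hne0] using e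
    refine hψ0 (LinearMap.ext fun x => ?_)
    have h2 := ufun_eq_zero hy (φ := ψ.comp (LinearMap.snd k W W'))
      (fun u hu x => by simp [P, hψ' u hu]) (by simpa using h0)
    simpa using DFunLike.congr_fun h2 ((0 : W), x)
  have hfull : ∀ x : W, (x, (0 : W')) ∈ X → x = 0 := by
    intro x hx
    by_contra hx0
    refine hXne (eq_top_iff.2 fun a _ => ?_)
    let S : Submodule k W := X.comap (LinearMap.inl k W W')
    have hS : S = ⊤ := hirr S ((Submodule.ne_bot_iff _).2 ⟨x, hx, hx0⟩) fun g hg y hy => by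
      show ((A.ρ g y, (0 : W')) : W × W') ∈ X
      simpa [P] using hXinv g hg _ hy
    have h1 : ∀ y : W, (y, (0 : W')) ∈ X := fun y => (show y ∈ S by rw [hS]; trivial)
    let S' : Submodule k W' := X.comap (LinearMap.inr k W W')
    have hS' : S' = ⊤ := by
      refine hirr' S' ((Submodule.ne_bot_iff _).2 ⟨z', ?_, h'.ne⟩) fun g hg y hy => ?_
      · show ((0 : W), z') ∈ X
        simpa using X.sub_mem hzz (h1 z)
      · show (((0 : W), A'.ρ g y) : W × W') ∈ X
        simpa [P] using hXinv g hg _ hy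
    have h2 : ((0 : W), a.2) ∈ X := (show a.2 ∈ S' by rw [hS']; trivial)
    simpa using X.add_mem (h1 a.1) h2
  let π : X →ₗ[k] W' := (LinearMap.snd k W W').comp X.subtype
  have hinj : Function.Injective π := by
    rw [← LinearMap.ker_eq_bot, LinearMap.ker_eq_bot']
    rintro ⟨⟨a, b⟩, hab⟩ (hb : b = 0)
    subst hb
    exact Subtype.ext (Prod.ext (hfull a hab) rfl)
  have hsurj : Function.Surjective π := by
    rw [← LinearMap.range_eq_top]
    refine hirr' _ ((Submodule.ne_bot_iff _).2 ⟨z', ⟨⟨_, hzz⟩, rfl⟩, h'.ne⟩) ?_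
    rintro g hg _ ⟨⟨x, hx⟩, rfl⟩
    exact ⟨⟨_, hXinv g hg x hx⟩, rfl⟩
  let e := LinearEquiv.ofBijective π ⟨hinj, hsurj⟩
  refine ⟨((LinearMap.fst k W W').comp X.subtype).comp e.symm.toLinearMap, ?_, fun g hg x => ?_⟩
  · have : e.symm z' = ⟨_, hzz⟩ := e.symm_apply_eq.2 rfl
    simp [this]
  · obtain ⟨⟨⟨a, b⟩, hab⟩, rfl⟩ := hsurj x
    have h1 : e.symm b = ⟨(a, b), hab⟩ := e.symm_apply_eq.2 rfl
    have h2 : e.symm (A'.ρ g b) = ⟨_, hXinv g hg _ hab⟩ := e.symm_apply_eq.2 rfl
    show ((e.symm (A'.ρ g b) : X) : W × W').1 = A.ρ g ((e.symm b : X) : W × W').1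
    rw [h1, h2]
    rfl

end Cfsg.Agent.Small.Modular
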